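import Cfsg.Agent.H62.Xi.Tools
import Cfsg.Agent.CompLayer
import Cfsg.Agent.H5.Frobenius
import Cfsg.Agent.H6.AutPGroup
import Cfsg.Agent.H8.Coprime

/-!
Components of a group of odd ranks at most two with trivial `O₂`, and an irreducible pair in it:
the pair normalises every component.
-/

set_option autoImplicit false

namespace H62.XU

open Subgroup

theorem center_aut_trivial {X : Type*} [Group X] [Finite X] {r : ℕ} [Fact r.Prime] (hr : r ≠ 2)
    (hcen : ∀ a : X, a ^ r = 1 → a ∈ center X) {Q : Subgroup X} (hQ : IsPGroup r Q) {g : X}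
    (hg : g ∈ normalizer (Q : Set X)) (hgo : Nat.Coprime (orderOf g) r) :
    g ∈ centralizer (Q : Set X) := by
  let φ : normalizer (Q : Set X) →* MulAut Q := normalizerMonoidHom Q
  have hord : Nat.Coprime (orderOf (φ ⟨g, hg⟩)) r :=
    Nat.Coprime.coprime_dvd_left ((orderOf_map_dvd φ ⟨g, hg⟩).trans
      (Subgroup.orderOf_mk g hg).dvd) hgo
  have h1 := H6.eq_one_of_fixes_omega_one hr hQ (φ ⟨g, hg⟩) hord fun x hx => by
    refine Subtype.ext ?_
    show g * x * g⁻¹ = x
    rw [mem_center_iff.1 (hcen x (by simpa using congrArg Subtype.val hx)) g, mul_inv_cancel_right]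
  rw [mem_centralizer_iff]
  intro x hx
  have : g * x * g⁻¹ = x := congrArg Subtype.val (DFunLike.congr_fun h1 (⟨x, hx⟩ : Q))
  exact (mul_inv_eq_iff_eq_mul.1 this).symm

/-- A quasisimple group has a non-central element of some odd prime order. -/
theorem exists_noncentral {X : Type*} [Group X] [Finite X] (h : Cfsg.IsQuasisimple X) :
    ∃ (r : ℕ) (a : X), r.Prime ∧ r ≠ 2 ∧ a ^ r = 1 ∧ a ∉ center X := by
  have := Cfsg.Comp.nontrivial_of_quasisimple h
  have hns := Cfsg.Comp.not_isSolvable_of_quasisimple h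
  obtain ⟨r, hrp, hr2, hrd⟩ : ∃ r, r.Prime ∧ r ≠ 2 ∧ r ∣ Nat.card X := by
    by_contra hno
    push Not at hno
    have hcard := Nat.eq_prime_pow_of_unique_prime_dvd (p := 2) (Nat.card_pos (α := X)).ne'
      fun {d} hd hdd => by_contra fun h2 => hno d hd h2 hdd
    have h2 : IsPGroup 2 X := IsPGroup.of_card hcard
    have := h2.isNilpotent
    exact hns inferInstance
  have := Fact.mk hrp
  by_contra hno
  push Not at hno
  have hcen : ∀ a : X, a ^ r = 1 → a ∈ center X := fun a ha => hno r a hrp hr2 ha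
  obtain ⟨P, N, hN, hc⟩ := H5.hasNormalPComplement_of_frobenius (default : Sylow r X)
    fun Q hQ g hg hgo => center_aut_trivial hr2 hcen
      ((default : Sylow r X).isPGroup'.to_le hQ) hg hgo
  rcases Cfsg.Comp.normal_eq_top_or_le_center h hN with h1 | h1
  · rw [h1, isComplement'_top_left] at hc
    exact P.ne_bot_of_dvd_card hrd hc
  · have hsurj : Function.Surjective ((QuotientGroup.mk' (center X)).comp (P : Subgroup X).subtype) := by
      intro q
      obtain ⟨x, rfl⟩ := QuotientGroup.mk'_surjective _ q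
      obtain ⟨⟨⟨n, hn⟩, ⟨y, hy⟩⟩, rfl⟩ := (hc.existsUnique x).exists
      refine ⟨⟨y, hy⟩, ?_⟩
      simp [(QuotientGroup.eq_one_iff n).2 (h1 hn)]
    have hq : IsPGroup r (X ⧸ center X) := P.isPGroup'.of_surjective _ hsurj
    have := Group.of_quotient_center_nilpotent (G := X) hq.isNilpotent
    exact hns inferInstance

variable {H : Type*} [Group H]

/-- The hypotheses of the uniqueness argument in `H`. -/
structure Ctx (p : ℕ) (P U X T : Subgroup H) : Prop where
  o2 : Cfsg.pCore 2 H = ⊥
  rk : ∀ r : ℕ, r.Prime → r ≠ 2 → Cfsg.PRankLE r 2 H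
  hp2 : p ≠ 2
  pair : IsPair p P U
  PX : P ≤ X
  gen : ∀ N : Subgroup H, P ≤ N → X ≤ normalizer (N : Set H) → X ≤ N
  UXT : U ≤ X ⊔ T
  TX : T ≤ normalizer (X : Set H)
  excl : ∀ L : Subgroup H, Cfsg.IsComponent L → ¬ X ≤ Cfsg.conjClosure L T

variable [Finite H] {p : ℕ} [Fact p.Prime] {P U X T : Subgroup H}

omit [Finite H] in
theorem map_conj_conj (L : Subgroup H) (a b : H) :
    (L.map (MulAut.conj b).toMonoidHom).map (MulAut.conj a).toMonoidHom =
      L.map (MulAut.conj (a * b)).toMonoidHom := by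
  rw [Subgroup.map_map]
  congr 1
  ext x
  simp [mul_assoc]

/-- An element of odd prime order of the pair normalises every component. -/
theorem Ctx.mem_normalizer_component (c : Ctx p P U X T) {L : Subgroup H}
    (hL : Cfsg.IsComponent L) {x : H} (hx : x ∈ P) : x ∈ normalizer (L : Set H) := by
  by_contra hxn
  set L1 := L.map (MulAut.conj x).toMonoidHom with hL1
  set L2 := L1.map (MulAut.conj x).toMonoidHom with hL2
  have h10 : L1 ≠ L := fun e => hxn (Cfsg.Comp.mem_normalizer_of_map_conj_eq e)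
  have h20 : L2 ≠ L := by
    intro e
    rw [hL2, hL1, map_conj_conj] at e
    have hx2 := Cfsg.Comp.mem_normalizer_of_map_conj_eq e
    obtain ⟨k, hk⟩ := (Fact.out : p.Prime).odd_of_ne_two c.hp2
    have h1 : (x * x) ^ (k + 1) = x := by
      rw [← pow_two, ← pow_mul, show 2 * (k + 1) = p + 1 by omega, pow_succ, c.pair.exp x hx,
        one_mul]
    exact hxn (h1 ▸ pow_mem hx2 _)
  have h21 : L2 ≠ L1 := fun e =>
    h10 (Subgroup.map_injective (MulAut.conj x).injective e)
  have hC1 := Cfsg.Comp.isComponent_conj hL x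
  have hC2 := Cfsg.Comp.isComponent_conj hC1 x
  have hcom : ∀ {A B : Subgroup H}, Cfsg.IsComponent A → Cfsg.IsComponent B → A ≠ B →
      A ≤ centralizer (B : Set H) := fun hA hB hne =>
    commutator_eq_bot_iff_le_centralizer.1 ((Cfsg.Comp.component_eq_or_commute hA hB).resolve_left hne)
  obtain ⟨r, a, hr, hr2, ha, haz⟩ := exists_noncentral hL.2
  have := Fact.mk hr
  set b := x * (a : H) * x⁻¹ with hb
  set d := x * b * x⁻¹ with hd
  have hbL : b ∈ L1 := ⟨a, a.2, rfl⟩
  have hdL : d ∈ L2 := ⟨b, hbL, rfl⟩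
  have ha' : (a : H) ^ r = 1 := by simpa using congrArg Subtype.val ha
  have hb' : b ^ r = 1 := by rw [hb, conj_pow, ha']; group
  have hd' : d ^ r = 1 := by rw [hd, conj_pow, hb']; group
  have hanc : (a : H) ∉ centralizer (L : Set H) := fun h => haz (mem_center_iff.2 fun y =>
    Subtype.ext (mem_centralizer_iff.1 h y y.2))
  have hbnc : b ∉ centralizer (L1 : Set H) := fun h => hanc (mem_centralizer_iff.2 fun y hy => by
    have := mem_centralizer_iff.1 h (x * y * x⁻¹) ⟨y, hy, rfl⟩
    rw [hb] at this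
    have h' := congrArg (fun z => x⁻¹ * z * x) this
    simpa [mul_assoc] using h')
  refine false_of_three (c.rk r hr hr2) ha' hb' hd'
    (Cfsg.Comp.commute_of_le_centralizer (hcom hL hC1 h10.symm) a.2 hbL)
    (Cfsg.Comp.commute_of_le_centralizer (hcom hL hC2 h20.symm) a.2 hdL)
    (Cfsg.Comp.commute_of_le_centralizer (hcom hC1 hC2 h21.symm) hbL hdL) ?_ ?_ ?_
  · intro h
    rw [hd, conj_eq_one_iff, hb, conj_eq_one_iff] at h
    exact hanc (h ▸ one_mem _)
  · exact fun h => hbnc ((zpowers_le.2 (hcom hC2 hC1 h21 hdL)) h)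
  · exact fun h => hanc ((sup_le (zpowers_le.2 (hcom hC2 hL h20 hdL))
      (zpowers_le.2 (hcom hC1 hL h10 hbL))) h)

/-- The intersection of the normalisers of all components. -/
def compNormalizer (H : Type*) [Group H] : Subgroup H :=
  ⨅ L : {L : Subgroup H // Cfsg.IsComponent L}, normalizer ((L : Subgroup H) : Set H)

omit [Finite H] in
theorem mem_compNormalizer {g : H} :
    g ∈ compNormalizer H ↔ ∀ L : Subgroup H, Cfsg.IsComponent L → g ∈ normalizer (L : Set H) := by
  rw [compNormalizer, mem_iInf]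
  exact ⟨fun h L hL => h ⟨L, hL⟩, fun h L => h L L.2⟩

omit [Finite H] in
instance compNormalizer_normal : (compNormalizer H).Normal := by
  refine ⟨fun n hn g => mem_compNormalizer.2 fun L hL => ?_⟩
  refine Cfsg.Comp.mem_normalizer_of_map_conj_eq ?_
  have h := Cfsg.Comp.map_conj_eq_of_mem_normalizer
    (mem_compNormalizer.1 hn _ (Cfsg.Comp.isComponent_conj hL g⁻¹))
  rw [← map_conj_conj, ← map_conj_conj, h, map_conj_conj, mul_inv_cancel]
  ext y
  simp

theorem Ctx.X_le_normalizer (c : Ctx p P U X T) {L : Subgroup H} (hL : Cfsg.IsComponent L) :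
    X ≤ normalizer (L : Set H) :=
  (c.gen (compNormalizer H)
    (fun _ hx => mem_compNormalizer.2 fun _ hL' => c.mem_normalizer_component hL' hx)
    Cfsg.Comp.le_normalizer_of_normal).trans fun _ hx => mem_compNormalizer.1 hx L hL

theorem Ctx.P_le_normalizer (c : Ctx p P U X T) {L : Subgroup H} (hL : Cfsg.IsComponent L) :
    P ≤ normalizer (L : Set H) := c.PX.trans (c.X_le_normalizer hL)

omit [Finite H] in
theorem le_conjClosure (L T : Subgroup H) : L ≤ Cfsg.conjClosure L T := by
  intro x hx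
  exact le_iSup (fun t : T => L.map (MulAut.conj (t : H)).toMonoidHom) 1 ⟨x, hx, by simp⟩

omit [Finite H] in
theorem le_normalizer_conjClosure (L T : Subgroup H) :
    T ≤ normalizer (Cfsg.conjClosure L T : Set H) := by
  intro t ht
  refine Cfsg.Comp.mem_normalizer_of_map_conj_eq ?_
  rw [Cfsg.conjClosure, Subgroup.map_iSup]
  simp only [map_conj_conj]
  refine le_antisymm (iSup_le fun s => ?_) (iSup_le fun s => ?_)
  · exact le_iSup (fun u : T => L.map (MulAut.conj (u : H)).toMonoidHom) ⟨t * s, mul_mem ht s.2⟩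
  · have := le_iSup (fun u : T => L.map (MulAut.conj (t * (u : H))).toMonoidHom)
      ⟨t⁻¹ * s, mul_mem (inv_mem ht) s.2⟩
    simpa using this

omit [Finite H] in
theorem conjClosure_le_layer {L : Subgroup H} (hL : Cfsg.IsComponent L) (T : Subgroup H) :
    Cfsg.conjClosure L T ≤ Cfsg.layer H :=
  iSup_le fun t => Cfsg.Comp.le_layer (Cfsg.Comp.isComponent_conj hL t)

theorem conjClosure_le_normalizer {L : Subgroup H} (hL : Cfsg.IsComponent L) (T : Subgroup H) :
    Cfsg.conjClosure L T ≤ normalizer (L : Set H) :=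
  (conjClosure_le_layer hL T).trans (Cfsg.Comp.layer_le_normalizer_component hL)

omit [Finite H] in
theorem conjClosure_perfect {L : Subgroup H} (hL : Cfsg.IsComponent L) (T : Subgroup H) :
    ⁅Cfsg.conjClosure L T, Cfsg.conjClosure L T⁆ = Cfsg.conjClosure L T := by
  refine le_antisymm (Subgroup.commutator_le_self _) (iSup_le fun t => ?_)
  exact (Cfsg.Comp.isComponent_perfect (Cfsg.Comp.isComponent_conj hL t)).ge.trans
    (commutator_mono (le_iSup (fun u : T => L.map (MulAut.conj (u : H)).toMonoidHom) t)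
      (le_iSup (fun u : T => L.map (MulAut.conj (u : H)).toMonoidHom) t))

theorem Ctx.X_le_normalizer_conjClosure (c : Ctx p P U X T) {L : Subgroup H}
    (hL : Cfsg.IsComponent L) : X ≤ normalizer (Cfsg.conjClosure L T : Set H) :=
  H8.le_normalizer_iSup _ fun t => c.X_le_normalizer (Cfsg.Comp.isComponent_conj hL t)

theorem Ctx.U_le_normalizer_conjClosure (c : Ctx p P U X T) {L : Subgroup H}
    (hL : Cfsg.IsComponent L) : U ≤ normalizer (Cfsg.conjClosure L T : Set H) :=
  c.UXT.trans (sup_le (c.X_le_normalizer_conjClosure hL) (le_normalizer_conjClosure L T))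

/-- The pair meets `⟨L^T⟩` only in its derived group. -/
theorem Ctx.inf_conjClosure_le (c : Ctx p P U X T) {L : Subgroup H} (hL : Cfsg.IsComponent L) :
    P ⊓ Cfsg.conjClosure L T ≤ ⁅P, P⁆ := by
  have h1 : P ≤ normalizer ((P ⊓ Cfsg.conjClosure L T : Subgroup H) : Set H) :=
    Cfsg.Comp.inf_le_normalizer le_normalizer (c.PX.trans (c.X_le_normalizer_conjClosure hL))
  have h2 : U ≤ normalizer ((P ⊓ Cfsg.conjClosure L T : Subgroup H) : Set H) :=
    Cfsg.Comp.inf_le_normalizer c.pair.norm (c.U_le_normalizer_conjClosure hL)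
  rcases c.pair.irr _ inf_le_left h1 h2 with h | h
  · exact absurd (c.gen _ (inf_eq_left.1 h) (c.X_le_normalizer_conjClosure hL)) (c.excl L hL)
  · exact h

end H62.XU
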