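import Cfsg.Agent.H62.Xi.Layer

/-!
In a group with trivial `O₂` and odd ranks at most two the irreducible pair is normal.
-/

set_option autoImplicit false

namespace H62.XU

open Subgroup
open scoped commutatorElement

variable {H : Type*} [Group H] [Finite H] {p : ℕ} [Fact p.Prime] {P U X T : Subgroup H}

/-- The pair centralises `O_r` for the primes different from `p`. -/
theorem Ctx.centralizes_pCore (c : Ctx p P U X T) {r : ℕ} [Fact r.Prime] (hrp : r ≠ p) :
    P ≤ centralizer (Cfsg.pCore r H : Set H) := by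
  by_cases hr : r = 2
  · subst hr
    intro x _
    rw [c.o2]
    exact mem_centralizer_iff.2 fun y hy => by rw [mem_bot.1 hy]; simp
  obtain ⟨f, hf⟩ := H80.rank2_hom_general (A := (⊤ : Subgroup H)) hr (Cfsg.Comp.pCore_isPGroup r)
    (H80.pRankLE_subgroup _ (c.rk r Fact.out hr)) Cfsg.Comp.le_normalizer_of_normal
  have hkill := c.pair.gl2_kill c.hp2 f le_top le_top
  intro x hx
  obtain ⟨k, hk⟩ := hf _ (MonoidHom.mem_ker.2 (hkill ⟨x, hx⟩))
  exact mem_of_pow_mem_coprime hk (c.pair.exp x hx)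
    (Nat.Coprime.pow_left _ ((Nat.coprime_primes Fact.out Fact.out).2 hrp))

/-- The pair lies in `O_p`. -/
theorem Ctx.le_pCore (c : Ctx p P U X T) : P ≤ Cfsg.pCore p H := by
  set K := Cfsg.pCore p H with hK
  obtain ⟨f, hf⟩ := H80.rank2_hom_general (A := (⊤ : Subgroup H)) c.hp2
    (Cfsg.Comp.pCore_isPGroup p) (H80.pRankLE_subgroup _ (c.rk p Fact.out c.hp2))
    Cfsg.Comp.le_normalizer_of_normal
  set Kf := f.ker.map (⊤ : Subgroup H).subtype with hKf
  have : Kf.Normal := f.normal_ker.map _ fun x => ⟨⟨x, mem_top x⟩, rfl⟩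
  have hPf : P ≤ Kf := fun x hx => ⟨inclusion le_top ⟨x, hx⟩,
    MonoidHom.mem_ker.2 (c.pair.gl2_kill c.hp2 f le_top le_top ⟨x, hx⟩), rfl⟩
  set B := normalClosure (P : Set H) with hB
  have hPB : P ≤ B := fun x hx => subset_normalClosure hx
  have hBle : ∀ N : Subgroup H, N.Normal → P ≤ N → B ≤ N := fun N hN h =>
    @normalClosure_le_normal H _ _ N hN h
  have hBpow : ∀ b ∈ B, ∃ k, b ^ p ^ k ∈ centralizer (K : Set H) := by
    intro b hb
    obtain ⟨a, ha, rfl⟩ := hBle Kf inferInstance hPf hb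
    exact hf a ha
  have hlayer : P ≤ centralizer (Cfsg.layer H : Set H) :=
    le_centralizer_iff.1 (Cfsg.Comp.layer_le_iff.2 fun L hL =>
      le_centralizer_iff.1 (c.centralizes_component hL))
  have hBlayer : Cfsg.layer H ≤ centralizer (B : Set H) :=
    le_centralizer_iff.1 (hBle _ inferInstance hlayer)
  have hBcore : ∀ r : ℕ, r.Prime → r ≠ p → Cfsg.pCore r H ≤ centralizer (B : Set H) :=
    fun r hr hrp => by
      have := Fact.mk hr
      exact le_centralizer_iff.1 (hBle _ inferInstance (c.centralizes_pCore hrp))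
  set D := B ⊓ centralizer (K : Set H) with hD
  have hDF : D ≤ centralizer (Cfsg.generalizedFittingSubgroup H : Set H) := by
    refine le_centralizer_iff.1 (sup_le ?_ ?_)
    · exact hBlayer.trans (centralizer_le (show (D : Set H) ⊆ B from (inf_le_left : D ≤ B)))
    · rw [Cfsg.Comp.fitting_eq_iSup_pCore]
      refine iSup_le fun q => ?_
      by_cases hqp : (q : ℕ) = p
      · rw [hqp]
        exact le_centralizer_iff.1 inf_le_right
      · exact (hBcore q q.2 hqp).trans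
          (centralizer_le (show (D : Set H) ⊆ B from (inf_le_left : D ≤ B)))
  have hDfit : D ≤ Cfsg.fittingSubgroup H := by
    refine Cfsg.Comp.le_fittingSubgroup inferInstance
      (Cfsg.Comp.isNilpotent_of_commutator_commutator ?_)
    rw [show ⁅D, D⁆ = ⊥ from commutator_eq_bot_iff_le_centralizer.2 (hDF.trans
      (centralizer_le (SetLike.coe_subset_coe.2 (hDF.trans Cfsg.Comp.centralizer_fStar_le)))),
      commutator_bot_left]
  -- elements of `B` of order prime to `p` are central in `B`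
  have hprime : ∀ b ∈ B, Nat.Coprime (orderOf b) p → b ∈ centralizer (B : Set H) := by
    intro b hb hbo
    obtain ⟨k, hk⟩ := hBpow b hb
    have hbK : b ∈ centralizer (K : Set H) := mem_of_pow_mem_coprime hk (pow_orderOf_eq_one b)
      (Nat.Coprime.pow_left _ hbo.symm)
    set E := centralizer (B : Set H) with hE
    have hle : Cfsg.fittingSubgroup H ≤ E ⊔ K := by
      rw [Cfsg.Comp.fitting_eq_iSup_pCore]
      refine iSup_le fun q => ?_
      by_cases hqp : (q : ℕ) = p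
      · rw [hqp]
        exact le_sup_right
      · exact (hBcore q q.2 hqp).trans le_sup_left
    obtain ⟨e, he, y, hy, hey⟩ := mem_sup_of_normal_left.1 (hle (hDfit ⟨hb, hbK⟩))
    obtain ⟨i, hi⟩ := Cfsg.Comp.pCore_isPGroup (G := H) p ⟨y, hy⟩
    refine mem_of_pow_mem_coprime (m := p ^ i) ?_ (pow_orderOf_eq_one b)
      (Nat.Coprime.pow_left _ hbo.symm)
    have h1 : (QuotientGroup.mk' E) b = QuotientGroup.mk' E y := by
      rw [← hey, map_mul, show QuotientGroup.mk' E e = 1 from (QuotientGroup.eq_one_iff e).2 he,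
        one_mul]
    have h2 : QuotientGroup.mk' E (b ^ p ^ i) = 1 := by
      rw [map_pow, h1, ← map_pow, show y ^ p ^ i = 1 by simpa using congrArg Subtype.val hi, map_one]
    exact (QuotientGroup.eq_one_iff _).1 h2
  have hq : IsPGroup p (B ⧸ center B) := by
    intro q
    obtain ⟨⟨b, hb⟩, rfl⟩ := QuotientGroup.mk_surjective q
    obtain ⟨k, hk⟩ := H5.exists_pow_prime_pow_coprime (p := p) b
    refine ⟨k, ?_⟩
    rw [← QuotientGroup.mk_pow, QuotientGroup.eq_one_iff, mem_center_iff]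
    intro g
    exact Subtype.ext (mem_centralizer_iff.1 (hprime _ (pow_mem hb _) hk) g g.2)
  have hBn : Group.IsNilpotent B := Group.of_quotient_center_nilpotent (G := B) hq.isNilpotent
  obtain ⟨Q, hQ⟩ := (c.pair.pgroup.comap_subtype (K := B)).exists_le_sylow
  have hQn : (Q : Subgroup B).Normal := inferInstance
  have hBs : B.IsSubnormal := Subgroup.Normal.isSubnormal inferInstance
  refine le_trans ?_ (Cfsg.Comp.le_pCore_of_subnormal (hQn.isSubnormal.trans' hBs) (Q.2.map _))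
  intro x hx
  exact ⟨⟨x, hPB hx⟩, hQ (mem_subgroupOf.2 hx), rfl⟩

/-- The pair is normal. -/
theorem Ctx.normal (c : Ctx p P U X T) : P.Normal := by
  have hr := c.rk p Fact.out c.hp2
  set K := Cfsg.pCore p H with hK
  have hKp : IsPGroup p K := Cfsg.Comp.pCore_isPGroup p
  have hPK : P ≤ K := c.le_pCore
  let Z1 : Subgroup H :=
    { carrier := {x | x ∈ K ∧ x ∈ centralizer (K : Set H) ∧ x ^ p = 1}
      one_mem' := ⟨one_mem K, one_mem _, one_pow p⟩
      mul_mem' := fun {a b} ha hb => ⟨mul_mem ha.1 hb.1, mul_mem ha.2.1 hb.2.1, by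
        rw [(show Commute a b from (mem_centralizer_iff.1 ha.2.1 b hb.1).symm).mul_pow, ha.2.2,
          hb.2.2, one_mul]⟩
      inv_mem' := fun {a} ha => ⟨inv_mem ha.1, inv_mem ha.2.1, by rw [inv_pow, ha.2.2, inv_one]⟩ }
  have hZ1n : Z1.Normal := ⟨fun x hx g =>
    ⟨(inferInstance : K.Normal).conj_mem x hx.1 g,
      (inferInstance : (centralizer (K : Set H)).Normal).conj_mem x hx.2.1 g,
      by rw [conj_pow, hx.2.2]; group⟩⟩
  have hZ1P : Z1 ≤ P := fun x hx => c.pair.mem_of_centralizes hr hx.2.2 fun y hy =>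
    (mem_centralizer_iff.1 hx.2.1 y (hPK hy)).symm
  rcases c.pair.irr Z1 hZ1P Cfsg.Comp.le_normalizer_of_normal Cfsg.Comp.le_normalizer_of_normal
    with hZP | hZD
  · exact hZP ▸ hZ1n
  set Z := ⁅P, P⁆ with hZ
  have hKne : K ≠ ⊥ := fun e => c.pair.notLE ((hPK.trans e.le).trans bot_le)
  obtain ⟨z, hzK, hz1, hzp, hzc⟩ := H83.exists_central_order_p_mem hKp le_rfl le_normalizer hKne
  have hzZ1 : z ∈ Z1 := ⟨hzK, mem_centralizer_iff.2 fun y hy => hzc y hy, hzp⟩
  have hcardZ : Nat.card Z = p := by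
    rcases c.pair.cases' with ⟨_, h⟩ | ⟨_, h⟩
    · exact absurd (mem_bot.1 (h ▸ hZD hzZ1)) hz1
    · exact h
  have hzgen : zpowers z = Z := eq_of_le_of_card_ge (zpowers_le.2 (hZD hzZ1)) (by
    rw [hcardZ, Nat.card_zpowers, orderOf_eq_prime hzp hz1])
  have hZn : Z.Normal := by
    have e : Z1 = Z := le_antisymm hZD (hzgen ▸ zpowers_le.2 hzZ1)
    exact e ▸ hZ1n
  have hZK : Z ≤ K := (c.pair.commutator_le).trans hPK
  have hZc : ∀ y ∈ K, ∀ w ∈ Z, y * w = w * y := fun y hy w hw => by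
    rw [← hzgen] at hw
    obtain ⟨i, rfl⟩ := mem_zpowers_iff.1 hw
    exact ((show Commute y z from hzc y hy).zpow_right i).eq
  let W : Subgroup H :=
    { carrier := {w | w ∈ K ∧ w ^ p = 1 ∧ ∀ y ∈ K, y * w * y⁻¹ * w⁻¹ ∈ Z}
      one_mem' := ⟨one_mem K, one_pow p, fun y _ => by simp⟩
      mul_mem' := fun {u v} hu hv => by
        refine ⟨mul_mem hu.1 hv.1, ?_, fun y hy => ?_⟩
        · have h1 := hv.2.2 u⁻¹ (inv_mem hu.1)
          rw [inv_inv] at h1
          have hd : v⁻¹ * u⁻¹ * v * u ∈ Z := by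
            have h2 : v⁻¹ * u⁻¹ * v * u = v⁻¹ * (u⁻¹ * v * u * v⁻¹) * v := by group
            rw [h2, mul_assoc, ← hZc v hv.1 _ h1, ← mul_assoc, inv_mul_cancel, one_mul]
            exact h1
          rw [H83.mul_pow_prime Fact.out c.hp2 (x := u) (y := v) (c := v⁻¹ * u⁻¹ * v * u) (by group)
            (hZc u hu.1 _ hd).symm (hZc v hv.1 _ hd).symm
            (c.pair.exp _ (c.pair.commutator_le hd)), hu.2.1, hv.2.1, one_mul]
        · have h1 := hu.2.2 y hy
          have h2 := hv.2.2 y hy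
          have e : y * (u * v) * y⁻¹ * (u * v)⁻¹ =
              (y * u * y⁻¹ * u⁻¹) * (u * (y * v * y⁻¹ * v⁻¹) * u⁻¹) := by group
          rw [e, hZc u hu.1 _ h2, mul_inv_cancel_right]
          exact mul_mem h1 h2
      inv_mem' := fun {u} hu => by
        refine ⟨inv_mem hu.1, by rw [inv_pow, hu.2.1, inv_one], fun y hy => ?_⟩
        have h1 := inv_mem (hu.2.2 y hy)
        have e : y * u⁻¹ * y⁻¹ * u⁻¹⁻¹ = u⁻¹ * (y * u * y⁻¹ * u⁻¹)⁻¹ * u := by group
        rw [e, mul_assoc, ← hZc u hu.1 _ h1, ← mul_assoc, inv_mul_cancel, one_mul]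
        exact h1 }
  have hWn : W.Normal := ⟨fun w hw g =>
    ⟨(inferInstance : K.Normal).conj_mem w hw.1 g, by rw [conj_pow, hw.2.1]; group, fun y hy => by
      have hy' : g⁻¹ * y * g ∈ K := by simpa using (inferInstance : K.Normal).conj_mem y hy g⁻¹
      have e : y * (g * w * g⁻¹) * y⁻¹ * (g * w * g⁻¹)⁻¹ =
          g * ((g⁻¹ * y * g) * w * (g⁻¹ * y * g)⁻¹ * w⁻¹) * g⁻¹ := by group
      rw [e]
      exact hZn.conj_mem _ (hw.2.2 _ hy') g⟩⟩
  obtain ⟨x₁, h1, x₂, h2, h1', h2', hgen⟩ := c.pair.exists_two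
  -- `W ≤ P`
  have hWP : W ≤ P := by
    intro w hw
    have hmem : ∀ x ∈ P, ∀ y ∈ P, x * y * x⁻¹ * y⁻¹ ∈ Z := fun x hx y hy =>
      commutator_mem_commutator hx hy
    let ψ : P → Z × Z := fun x =>
      (⟨(x : H) * x₁ * (x : H)⁻¹ * x₁⁻¹, hmem x x.2 x₁ h1⟩,
        ⟨(x : H) * x₂ * (x : H)⁻¹ * x₂⁻¹, hmem x x.2 x₂ h2⟩)
    have hne : Z ≠ ⊥ := fun e => hz1 (mem_bot.1 (e ▸ hZD hzZ1))
    have hcentral : ∀ v ∈ K, v * x₁ = x₁ * v → v * x₂ = x₂ * v → ∀ x ∈ P, v * x = x * v := by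
      intro v hv e1 e2 x hx
      have hle : P ≤ centralizer {v} := hgen ▸ sup_le (sup_le
        (fun w hw => mem_centralizer_singleton_iff.2 (hZc v hv w hw).symm)
        (zpowers_le.2 (mem_centralizer_singleton_iff.2 e1.symm)))
        (zpowers_le.2 (mem_centralizer_singleton_iff.2 e2.symm))
      exact (mem_centralizer_singleton_iff.1 (hle hx)).symm
    let g : P ⧸ Z.subgroupOf P → Z × Z := fun q => ψ q.out
    have hinj : Function.Injective g := by
      intro q r hqr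
      obtain ⟨e1, e2⟩ := Prod.ext_iff.1 hqr
      set a : H := (q.out : H) with ha
      set b : H := (r.out : H) with hb
      have e1' : a * x₁ * a⁻¹ * x₁⁻¹ = b * x₁ * b⁻¹ * x₁⁻¹ := congrArg Subtype.val e1
      have e2' : a * x₂ * a⁻¹ * x₂⁻¹ = b * x₂ * b⁻¹ * x₂⁻¹ := congrArg Subtype.val e2
      have key : ∀ x : H, a * x * a⁻¹ * x⁻¹ = b * x * b⁻¹ * x⁻¹ → (a⁻¹ * b) * x = x * (a⁻¹ * b) := by
        intro x h
        have h' := congrArg (fun t => a⁻¹ * t * x * b) (mul_right_cancel h)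
        have h3 : b * x * b⁻¹ = a * x * a⁻¹ := (mul_right_cancel h).symm
        calc (a⁻¹ * b) * x = a⁻¹ * (b * x * b⁻¹) * b := by group
          _ = x * (a⁻¹ * b) := by rw [h3]; group
      have hab : a⁻¹ * b ∈ Z := c.pair.mem_of_central hne (mul_mem (inv_mem q.out.2) r.out.2)
        (hcentral _ (hPK (mul_mem (inv_mem q.out.2) r.out.2)) (key x₁ e1') (key x₂ e2'))
      rw [← QuotientGroup.out_eq' q, ← QuotientGroup.out_eq' r]
      exact QuotientGroup.eq.2 (mem_subgroupOf.2 hab)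
    have hcard : Nat.card (Z × Z) ≤ Nat.card (P ⧸ Z.subgroupOf P) := by
      have h := card_eq_card_quotient_mul_card_subgroup (Z.subgroupOf P)
      rw [Cfsg.Comp.card_subgroupOf c.pair.commutator_le, c.pair.card_eq, hcardZ] at h
      rw [Nat.card_prod, hcardZ, ← Nat.eq_of_mul_eq_mul_right (Fact.out : p.Prime).pos h, pow_two]
    have hsurj := (hinj.bijective_of_nat_card_le hcard).2
    have hwv : ∀ x ∈ P, w * x * w⁻¹ * x⁻¹ ∈ Z := fun x hx => by
      have := inv_mem (hw.2.2 x (hPK hx))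
      simpa [mul_assoc] using this
    obtain ⟨q, hq⟩ := hsurj (⟨_, hwv x₁ h1⟩, ⟨_, hwv x₂ h2⟩)
    obtain ⟨e1, e2⟩ := Prod.ext_iff.1 hq
    set d : H := (q.out : H) with hd
    have hdP : d ∈ P := q.out.2
    have e1' : d * x₁ * d⁻¹ * x₁⁻¹ = w * x₁ * w⁻¹ * x₁⁻¹ := congrArg Subtype.val e1
    have e2' : d * x₂ * d⁻¹ * x₂⁻¹ = w * x₂ * w⁻¹ * x₂⁻¹ := congrArg Subtype.val e2
    have key : ∀ x : H, d * x * d⁻¹ * x⁻¹ = w * x * w⁻¹ * x⁻¹ → (d⁻¹ * w) * x = x * (d⁻¹ * w) := by
      intro x h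
      have h3 : w * x * w⁻¹ = d * x * d⁻¹ := (mul_right_cancel h).symm
      calc (d⁻¹ * w) * x = d⁻¹ * (w * x * w⁻¹) * w := by group
        _ = x * (d⁻¹ * w) := by rw [h3]; group
    have hdK : d⁻¹ * w ∈ K := mul_mem (inv_mem (hPK hdP)) hw.1
    have hpw : (d⁻¹ * w) ^ p = 1 := by
      have hh := hw.2.2 d (hPK hdP)
      have hh' : w⁻¹ * d * w * d⁻¹ ∈ Z := by
        have h4 : w⁻¹ * d * w * d⁻¹ = w⁻¹ * (d * w * d⁻¹ * w⁻¹) * w := by group
        rw [h4, mul_assoc, ← hZc w hw.1 _ hh, ← mul_assoc, inv_mul_cancel, one_mul]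
        exact hh
      rw [H83.mul_pow_prime Fact.out c.hp2 (x := d⁻¹) (y := w) (c := w⁻¹ * d * w * d⁻¹) (by group)
        (hZc _ (inv_mem (hPK hdP)) _ hh').symm (hZc w hw.1 _ hh').symm
        (c.pair.exp _ (c.pair.commutator_le hh')), inv_pow, c.pair.exp d hdP, inv_one, one_mul]
      exact hw.2.1
    have hvP : d⁻¹ * w ∈ P :=
      c.pair.mem_of_centralizes hr hpw (hcentral _ hdK (key x₁ e1') (key x₂ e2'))
    simpa using mul_mem hdP hvP
  -- a normal subgroup of order `p²` of `K` over `Z`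
  have hZKn : (Z.subgroupOf K).Normal := normal_subgroupOf_of_le_normalizer Cfsg.Comp.le_normalizer_of_normal
  have hZKe : Cfsg.IsElementaryAbelian p (Z.subgroupOf K) :=
    ⟨Cfsg.Agent.H9.isMulCommutative_of fun a ha b hb => Subtype.ext (hZc a a.2 b hb),
      fun a ha => Subtype.ext (by simpa using c.pair.exp a (c.pair.commutator_le ha))⟩
  obtain ⟨E, hZE, hEn, hE, hmax⟩ := H83.exists_maximal_normal_elemAb hZKn hZKe
  have hlt : Z.subgroupOf K < E := by
    refine lt_of_le_of_ne hZE fun e => h1' ?_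
    have := H83.mem_of_maximal_normal_elemAb c.hp2 hKp hE hmax (x := ⟨x₁, hPK h1⟩)
      (Subtype.ext (by simpa using c.pair.exp x₁ h1))
      (fun a ha => Subtype.ext (hZc x₁ (hPK h1) a (by rw [← e] at ha; exact ha)))
    rw [← e] at this
    exact this
  obtain ⟨M, hMn, hZM, hME, hMc, -⟩ := Cfsg.Agent.H9.exists_normal_succ hKp (Z.subgroupOf K) E hlt
  set M1 := M.map K.subtype with hM1
  have hM1c : Nat.card M1 = p ^ 2 := by
    rw [card_map_of_injective K.subtype_injective, hMc, Cfsg.Comp.card_subgroupOf hZK, hcardZ, pow_two]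
  have hM1K : M1 ≤ K := map_subtype_le _
  have hKM1 : K ≤ normalizer (M1 : Set H) := by
    have hn : (M1.subgroupOf K).Normal := by
      rw [hM1, subgroupOf, comap_map_eq_self_of_injective K.subtype_injective]
      exact hMn
    exact (normal_subgroupOf_iff_le_normalizer hM1K).1 hn
  have hzM : z ∈ M1 := ⟨⟨z, hzK⟩, hZM.le (mem_subgroupOf.2 (hZD hzZ1)), rfl⟩
  have hM1W : M1 ≤ W := fun m hm => ⟨hM1K hm, by
    obtain ⟨a, ha, rfl⟩ := hm
    simpa using congrArg Subtype.val (hE.2 a (hME ha)),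
    fun y hy => hzgen ▸ H83.commutator_mem_zpowers_of_card_sq hKp hM1K hKM1 hM1c hzM hz1 hzp
      (fun r hr' => hzc r hr') y hy m hm⟩
  obtain ⟨m, hm, hmZ⟩ := SetLike.exists_of_lt hZM
  have hW : W = P := c.pair.eq_top' hWP Cfsg.Comp.le_normalizer_of_normal
    Cfsg.Comp.le_normalizer_of_normal (hM1W ⟨m, hm, rfl⟩) fun h => hmZ (mem_subgroupOf.2 h)
  exact hW ▸ hWn

/-- The conclusion: `X = P` is normal. -/
theorem Ctx.X_normal (c : Ctx p P U X T) : X.Normal := by
  have := c.normal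
  have e : X = P := le_antisymm (c.gen P le_rfl Cfsg.Comp.le_normalizer_of_normal) c.PX
  rw [e]
  exact this

end H62.XU
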