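import Cfsg.Agent.H62.Xi.Tools
import Cfsg.Agent.H80.Rank2Act
import Mathlib.LinearAlgebra.Matrix.GeneralLinearGroup.Card
import Mathlib.FieldTheory.IsAlgClosed.AlgebraicClosure

/-!
An irreducible pair has no faithful-modulo-derived-group action in `GL₂` over a prime field.
-/

set_option autoImplicit false

namespace H62.XU

open Subgroup Matrix
open scoped commutatorElement

section Field

variable {F : Type*} [Field F] {p : ℕ}

theorem scalar_eq_one [Fact p.Prime] (hp : p ≠ 2) {g : GL (Fin 2) F}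
    (hs : g 0 1 = 0 ∧ g 1 0 = 0 ∧ g 0 0 = g 1 1) (hd : Matrix.GeneralLinearGroup.det g = 1)
    (hg : g ^ p = 1) : g = 1 := by
  obtain ⟨h01, h10, h00⟩ := hs
  have h2 : g ^ 2 = 1 := by
    have hd' : (g : Matrix (Fin 2) (Fin 2) F).det = 1 := by
      simpa using congrArg Units.val hd
    rw [Matrix.det_fin_two] at hd'
    refine Units.ext ?_
    rw [Units.val_pow_eq_pow_val, Units.val_one, pow_two]
    ext i j
    fin_cases i <;> fin_cases j <;> simp_all [Matrix.mul_apply]
  obtain ⟨k, hk⟩ := (Fact.out : p.Prime).odd_of_ne_two hp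
  rw [hk, pow_add, pow_mul, h2, one_pow, one_mul, pow_one] at hg
  exact hg

/-- In the centre of an exponent `p` group, a non-identity element of determinant one forces
commutativity. -/
theorem comm_of_central_det_one [Fact p.Prime] (hp : p ≠ 2) {S : Subgroup (GL (Fin 2) F)}
    {z : GL (Fin 2) F} (hz : z ≠ 1) (hzp : z ^ p = 1) (hd : Matrix.GeneralLinearGroup.det z = 1)
    (hc : ∀ s ∈ S, s * z = z * s) : ∀ a ∈ S, ∀ b ∈ S, a * b = b * a := by
  intro a ha b hb
  have hns : ¬ (z 0 1 = 0 ∧ z 1 0 = 0 ∧ z 0 0 = z 1 1) := fun hs =>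
    hz (scalar_eq_one hp hs hd hzp)
  obtain ⟨s, t, hst⟩ := H80.comm_fin_two (M := (z : Matrix (Fin 2) (Fin 2) F)) hns
    (N := (a : Matrix (Fin 2) (Fin 2) F))
    (by rw [← Units.val_mul, hc a ha, Units.val_mul])
  refine Units.ext ?_
  have hbz : (b : Matrix (Fin 2) (Fin 2) F) * z = z * b := by
    rw [← Units.val_mul, hc b hb, Units.val_mul]
  rw [Units.val_mul, Units.val_mul, hst]
  simp only [mul_add, add_mul, Matrix.mul_smul, Matrix.smul_mul, mul_one, one_mul, hbz]

theorem eq_one_of_unipotent (hp : (p : F) ≠ 0) {g : GL (Fin 2) F}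
    (htr : (g : Matrix (Fin 2) (Fin 2) F).trace = 2)
    (hd : (g : Matrix (Fin 2) (Fin 2) F).det = 1) (hg : g ^ p = 1) : g = 1 := by
  set M : Matrix (Fin 2) (Fin 2) F := (g : Matrix (Fin 2) (Fin 2) F) with hM
  set N := M - 1 with hN
  have hNN : N * N = 0 := by
    have h := H80.sq_eq_fin_two M
    rw [htr, hd, one_smul] at h
    have e : N * N = M * M - (2 : F) • M + 1 := by
      rw [hN, two_smul]; noncomm_ring
    rw [e, h]; abel
  have key : ∀ n : ℕ, M ^ n = 1 + (n : F) • N := by
    intro n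
    induction n with
    | zero => simp
    | succ n ih =>
      have hMN : M = 1 + N := by rw [hN]; abel
      rw [pow_succ, ih]
      conv_lhs => rw [hMN]
      rw [add_mul, one_mul, Matrix.smul_mul, mul_add, mul_one, hNN, add_zero, Nat.cast_succ,
        add_smul, one_smul]
      abel
  have hMp : M ^ p = 1 := by rw [hM, ← Units.val_pow_eq_pow_val, hg, Units.val_one]
  have h1 : (p : F) • N = 0 := by
    have := key p
    rw [hMp] at this
    simpa using this.symm
  have hN0 : N = 0 := (smul_eq_zero.1 h1).resolve_left hp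
  exact Units.ext (by rw [Units.val_one, ← sub_eq_zero]; exact hN0)

/-- A commutative exponent `p` group of determinant one `2 × 2` matrices has order at most `p`. -/
theorem card_le_of_det_one [Fact p.Prime] (hp2 : p ≠ 2) (hp : (p : F) ≠ 0)
    {S : Subgroup (GL (Fin 2) F)} [Finite S] (hexp : ∀ s ∈ S, s ^ p = 1)
    (hc : ∀ a ∈ S, ∀ b ∈ S, a * b = b * a)
    (hdet : ∀ s ∈ S, Matrix.GeneralLinearGroup.det s = 1) : Nat.card S ≤ p := by
  classical
  by_cases hS : S = ⊥
  · rw [hS, card_bot]; exact (Fact.out : p.Prime).one_lt.le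
  obtain ⟨z, hzS, hz⟩ := S.bot_or_exists_ne_one.resolve_left hS
  have hns : ¬ (z 0 1 = 0 ∧ z 1 0 = 0 ∧ z 0 0 = z 1 1) := fun hs =>
    hz (scalar_eq_one hp2 hs (hdet z hzS) (hexp z hzS))
  let K := AlgebraicClosure F
  let ι : F →+* K := algebraMap F K
  let φ : GL (Fin 2) F → Matrix (Fin 2) (Fin 2) K := fun g =>
    (g : Matrix (Fin 2) (Fin 2) F).map ι
  have hφ : ∀ a b, φ (a * b) = φ a * φ b := fun a b => by
    simp only [φ, Units.val_mul, Matrix.map_mul]
  have hφ1 : φ 1 = 1 := by simp [φ]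
  -- an eigenvector of `z`
  obtain ⟨l, hl⟩ : ∃ l : K, (φ z - l • 1).det = 0 := by
    obtain ⟨l, hl⟩ := IsAlgClosed.exists_root
      (Polynomial.X ^ 2 - Polynomial.C (φ z).trace * Polynomial.X + Polynomial.C (φ z).det)
      (by
        have : (Polynomial.X ^ 2 - Polynomial.C (φ z).trace * Polynomial.X +
            Polynomial.C (φ z).det).degree = 2 := by compute_degree!
        rw [this]; decide)
    refine ⟨l, ?_⟩
    simp only [Polynomial.IsRoot, Polynomial.eval_add, Polynomial.eval_sub, Polynomial.eval_pow,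
      Polynomial.eval_X, Polynomial.eval_mul, Polynomial.eval_C, Matrix.trace_fin_two,
      Matrix.det_fin_two] at hl
    rw [Matrix.det_fin_two]
    simp only [Matrix.sub_apply, Matrix.smul_apply, Matrix.one_apply_eq, ne_eq, Fin.reduceEq,
      not_false_eq_true, Matrix.one_apply_ne, smul_eq_mul, mul_one, mul_zero, sub_zero]
    linear_combination hl
  obtain ⟨v, hv, hzv⟩ := Matrix.exists_mulVec_eq_zero_iff.2 hl
  have hzv' : φ z *ᵥ v = l • v := by
    rw [Matrix.sub_mulVec, Matrix.smul_mulVec, Matrix.one_mulVec, sub_eq_zero] at hzv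
    exact hzv
  -- it is an eigenvector of all of `S`
  have hev : ∀ s ∈ S, ∃ c : K, φ s *ᵥ v = c • v := by
    intro s hs
    obtain ⟨a, b, hab⟩ := H80.comm_fin_two (M := (z : Matrix (Fin 2) (Fin 2) F)) hns
      (N := (s : Matrix (Fin 2) (Fin 2) F))
      (by rw [← Units.val_mul, hc s hs z hzS, Units.val_mul])
    refine ⟨ι a + ι b * l, ?_⟩
    have e : φ s = ι a • (1 : Matrix (Fin 2) (Fin 2) K) + ι b • φ z := by
      show ((s : Matrix (Fin 2) (Fin 2) F)).map ι = _
      rw [hab]
      ext i j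
      simp [φ, Matrix.one_apply, apply_ite ι]
    rw [e, Matrix.add_mulVec, Matrix.smul_mulVec, Matrix.smul_mulVec, Matrix.one_mulVec, hzv',
      add_smul, mul_smul]
  choose c hcv using hev
  have hinj : ∀ c₁ c₂ : K, c₁ • v = c₂ • v → c₁ = c₂ := fun c₁ c₂ h => by
    rw [← sub_eq_zero, ← sub_smul] at h
    exact sub_eq_zero.1 ((smul_eq_zero.1 h).resolve_right hv)
  have hroot : ∀ s (hs : s ∈ S), c s hs ^ p = 1 := by
    intro s hs
    have key : ∀ n : ℕ, φ (s ^ n) *ᵥ v = (c s hs ^ n) • v := by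
      intro n
      induction n with
      | zero => rw [pow_zero, hφ1, Matrix.one_mulVec, pow_zero, one_smul]
      | succ n ih =>
        rw [pow_succ, hφ, ← Matrix.mulVec_mulVec, hcv s hs, Matrix.mulVec_smul, ih, smul_smul,
          ← pow_succ']
    have := key p
    rw [hexp s hs, hφ1, Matrix.one_mulVec] at this
    exact hinj _ _ (by rw [← this, one_smul])
  have hfix : ∀ s s' (hs : s ∈ S) (hs' : s' ∈ S), c s hs = c s' hs' → s = s' := by
    intro s s' hs hs' h
    set t := s⁻¹ * s' with ht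
    have htS : t ∈ S := mul_mem (inv_mem hs) hs'
    have h1 : φ t *ᵥ v = v := by
      rw [ht, hφ, ← Matrix.mulVec_mulVec, hcv s' hs', ← h, ← hcv s hs, Matrix.mulVec_mulVec,
        ← hφ, inv_mul_cancel, hφ1, Matrix.one_mulVec]
    have h2 : (φ t - 1).det = 0 :=
      Matrix.exists_mulVec_eq_zero_iff.1
        ⟨v, hv, by rw [Matrix.sub_mulVec, h1, Matrix.one_mulVec, sub_self]⟩
    have h3 : ((t : Matrix (Fin 2) (Fin 2) F) - 1).det = 0 := by
      apply ι.injective
      rw [ι.map_det, map_zero, ← h2]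
      congr 1
      simp [φ, RingHom.mapMatrix_apply, Matrix.map_sub]
    have hd : (t : Matrix (Fin 2) (Fin 2) F).det = 1 := by
      simpa using congrArg Units.val (hdet t htS)
    have htr : (t : Matrix (Fin 2) (Fin 2) F).trace = 2 := by
      rw [Matrix.det_fin_two] at h3 hd
      simp at h3
      rw [Matrix.trace_fin_two]
      linear_combination hd - h3
    have := eq_one_of_unipotent hp htr hd (hexp t htS)
    exact inv_mul_eq_one.1 this
  let g : S → {x // x ∈ (Polynomial.nthRoots p (1 : K)).toFinset} := fun s =>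
    ⟨c s s.2, by
      rw [Multiset.mem_toFinset, Polynomial.mem_nthRoots (Fact.out : p.Prime).pos]
      exact hroot s s.2⟩
  have hg : Function.Injective g := fun a b h =>
    Subtype.ext (hfix a b a.2 b.2 (congrArg Subtype.val h))
  refine (Nat.card_le_card_of_injective g hg).trans ?_
  rw [Nat.card_eq_finsetCard]
  exact (Multiset.toFinset_card_le _).trans (Polynomial.card_nthRoots p 1)

end Field

section Kill

variable {H : Type*} [Group H] [Finite H] {p r : ℕ} [Fact p.Prime] [Fact r.Prime]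

omit [Finite H] [Fact p.Prime] [Fact r.Prime] in
/-- A normal subgroup of the target cuts out all of `P` or a part of its derived group. -/
theorem IsPair.part {P U A : Subgroup H} (h : IsPair p P U) {Γ : Type*} [Group Γ] (f : A →* Γ)
    (hP : P ≤ A) (hU : U ≤ A) (N : Subgroup Γ) [N.Normal] :
    (∀ x : P, f (inclusion hP x) ∈ N) ∨ ∀ x : P, f (inclusion hP x) ∈ N → (x : H) ∈ ⁅P, P⁆ := by
  set K := (N.comap f).map A.subtype ⊓ P with hK
  have hn : ∀ V : Subgroup H, V ≤ A → V ≤ normalizer (P : Set H) → V ≤ normalizer (K : Set H) :=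
    fun V hVA hVP => le_normalizer_iff.2 fun v hv x hx => by
      obtain ⟨⟨a, ha, rfl⟩, hxP⟩ := hx
      refine ⟨⟨⟨v, hVA hv⟩ * a * ⟨v, hVA hv⟩⁻¹, ?_, rfl⟩, Cfsg.Comp.conj_mem_of_le_normalizer hVP hv hxP⟩
      exact Subgroup.Normal.conj_mem inferInstance a ha _
  rcases h.irr K inf_le_right (hn P hP le_normalizer) (hn U hU h.norm) with h1 | h1
  · left
    intro x
    obtain ⟨a, ha, hax⟩ := (inf_eq_right.1 h1) x.2
    have e : a = inclusion hP x := Subtype.ext hax
    exact e ▸ ha
  · right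
    intro x hx
    exact h1 ⟨⟨inclusion hP x, hx, rfl⟩, x.2⟩

/-- The pair is killed by every homomorphism into `GL₂(r)`. -/
theorem IsPair.gl2_kill (hp : p ≠ 2) {P U A : Subgroup H} (h : IsPair p P U)
    (f : A →* GL (Fin 2) (ZMod r)) (hP : P ≤ A) (hU : U ≤ A) :
    ∀ x : P, f (inclusion hP x) = 1 := by
  classical
  set φ := f.comp (inclusion hP) with hφ
  rcases h.part f hP hU (⊥ : Subgroup (GL (Fin 2) (ZMod r))) with h1 | h1
  · exact fun x => mem_bot.1 (h1 x)
  exfalso
  have hker : φ.ker.map P.subtype ≤ ⁅P, P⁆ := by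
    rintro _ ⟨x, hx, rfl⟩
    exact h1 x (mem_bot.2 hx)
  have hexp : ∀ s ∈ φ.range, s ^ p = 1 := by
    rintro _ ⟨x, rfl⟩
    rw [← map_pow, show x ^ p = 1 from Subtype.ext (by simpa using h.exp x x.2), map_one]
  have hZpos : 0 < Nat.card ↥⁅P, P⁆ := Nat.card_pos
  have hbig : ∀ {Γ : Type} [Group Γ] (ψ : P →* Γ), ψ.ker.map P.subtype ≤ ⁅P, P⁆ →
      p ^ 2 ≤ Nat.card ψ.range := by
    intro Γ _ ψ hψ
    have e : Nat.card ψ.range * Nat.card ψ.ker = Nat.card P := by
      rw [← index_ker, mul_comm, card_mul_index]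
    have hk : Nat.card ψ.ker ≤ Nat.card ↥⁅P, P⁆ := by
      rw [← card_map_of_injective P.subtype_injective]
      exact card_le_of_le hψ
    rw [h.card_eq] at e
    refine Nat.le_of_mul_le_mul_right ?_ hZpos
    rw [← e]
    exact Nat.mul_le_mul_left _ hk
  have hS2 := hbig φ hker
  have hSp : IsPGroup p φ.range := fun s => ⟨1, Subtype.ext (by simpa using hexp s s.2)⟩
  obtain ⟨j, hj⟩ := hSp.exists_card_eq
  by_cases hrp : r = p
  · have hdvd : Nat.card φ.range ∣ Nat.card (GL (Fin 2) (ZMod r)) := card_subgroup_dvd_card _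
    have hGL : Nat.card (GL (Fin 2) (ZMod r)) = (p ^ 2 - 1) * (p ^ 2 - p) := by
      rw [Matrix.card_GL_field, Fin.prod_univ_two, ZMod.card, hrp]
      simp
    have hj2 : 2 ≤ j := (Nat.pow_le_pow_iff_right (Fact.out : p.Prime).one_lt).1 (hj ▸ hS2)
    rw [hj, hGL] at hdvd
    have h2 : p ^ 2 ∣ (p ^ 2 - 1) * (p ^ 2 - p) := (pow_dvd_pow p hj2).trans hdvd
    have hpp := (Fact.out : p.Prime)
    rw [pow_two p, show p * p - p = p * (p - 1) by rw [Nat.mul_sub, mul_one],
      mul_left_comm] at h2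
    have h3 := Nat.dvd_of_mul_dvd_mul_left hpp.pos h2
    rcases hpp.dvd_mul.1 h3 with h4 | h4
    · have := (Nat.dvd_sub (dvd_mul_right p p) h4)
      rw [Nat.sub_sub_self (Nat.mul_pos hpp.pos hpp.pos)] at this
      exact hpp.not_dvd_one this
    · exact absurd (Nat.le_of_dvd (by have := hpp.two_le; omega) h4) (by have := hpp.two_le; omega)
  have hpF : (p : ZMod r) ≠ 0 := by
    rw [Ne, ZMod.natCast_eq_zero_iff, Nat.prime_dvd_prime_iff_eq Fact.out Fact.out]
    exact hrp
  let δ : P →* (ZMod r)ˣ := Matrix.GeneralLinearGroup.det.comp φ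
  -- the derived group has determinant one and is killed
  have hZdet : ∀ z : P, (z : H) ∈ ⁅P, P⁆ → δ z = 1 := by
    intro z hz
    have hle : ⁅P, P⁆ ≤ δ.ker.map P.subtype := by
      rw [Subgroup.commutator_le]
      intro a ha b hb
      refine ⟨⁅(⟨a, ha⟩ : P), ⟨b, hb⟩⁆, ?_, rfl⟩
      rw [SetLike.mem_coe, MonoidHom.mem_ker, map_commutatorElement]
      exact commutatorElement_eq_one_iff_mul_comm.2 (mul_comm _ _)
    obtain ⟨z', hz', e⟩ := hle hz
    exact (Subtype.ext e : z' = z) ▸ hz'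
  have hcomm : ∀ a ∈ φ.range, ∀ b ∈ φ.range, a * b = b * a := by
    by_cases hZ : ∀ z : P, (z : H) ∈ ⁅P, P⁆ → φ z = 1
    · rintro _ ⟨a, rfl⟩ _ ⟨b, rfl⟩
      rw [← commutatorElement_eq_one_iff_mul_comm, ← map_commutatorElement]
      exact hZ _ (commutator_mem_commutator a.2 b.2)
    · push Not at hZ
      obtain ⟨z, hz, hz1⟩ := hZ
      refine comm_of_central_det_one hp hz1 (hexp _ ⟨z, rfl⟩) (hZdet z hz) ?_
      rintro _ ⟨a, rfl⟩
      rw [← map_mul, ← map_mul]
      exact congrArg φ (Subtype.ext (h.commutator_central z hz a a.2).symm)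
  -- all determinants are one
  have hdet : ∀ x : P, δ x = 1 := by
    rcases h.part f hP hU (Matrix.GeneralLinearGroup.det (n := Fin 2) (R := ZMod r)).ker with
      h2 | h2
    · exact h2
    exfalso
    have hb := hbig δ (by rintro _ ⟨x, hx, rfl⟩; exact h2 x hx)
    have hle : Nat.card δ.range ≤ p := by
      rw [Nat.card_eq_fintype_card, ← Finset.card_univ]
      calc (Finset.univ : Finset δ.range).card
          ≤ (Finset.univ.filter fun u : (ZMod r)ˣ => u ^ p = 1).card := by
            refine Finset.card_le_card_of_injOn Subtype.val ?_ (fun a _ b _ h => Subtype.ext h)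
            rintro ⟨_, x, rfl⟩ -
            simp only [Finset.coe_filter, Finset.mem_univ, true_and, Set.mem_setOf_eq]
            rw [← map_pow, show x ^ p = 1 from Subtype.ext (by simpa using h.exp x x.2), map_one]
        _ ≤ p := IsCyclic.card_pow_eq_one_le (Fact.out : p.Prime).pos
    have := hb.trans hle
    nlinarith [(Fact.out : p.Prime).two_le]
  have hsmall := card_le_of_det_one (S := φ.range) hp hpF hexp hcomm
    (by rintro _ ⟨x, rfl⟩; exact hdet x)
  have := hS2.trans hsmall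
  nlinarith [(Fact.out : p.Prime).two_le]

end Kill

end H62.XU
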