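import Cfsg.Agent.H62.Xi.Component
import Cfsg.Agent.H62.Xi.GL2
import Cfsg.Agent.H84.Invariant
import Cfsg.Agent.H73.Conj
import Cfsg.Agent.H83.MaxNormalElem
import Cfsg.Agent.H6.OmegaOdd

/-!
The irreducible pair centralises every component.
-/

set_option autoImplicit false

namespace H62.XU

open Subgroup
open scoped commutatorElement

variable {H : Type*} [Group H] [Finite H] {p : ℕ} [Fact p.Prime] {P U X T : Subgroup H}

omit [Finite H] [Fact p.Prime] in
theorem card_mul_relIndex {A B : Subgroup H} (h : A ≤ B) :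
    Nat.card A * A.relIndex B = Nat.card B := by
  rw [← relIndex_bot_left A, ← relIndex_bot_left B, relIndex_mul_relIndex ⊥ A B bot_le h]

omit [Fact p.Prime] in
theorem isSylIn_cmap {r : ℕ} {u : H} {R K : Subgroup H} (h : H84.IsSylIn r R K)
    (hu : u ∈ normalizer (K : Set H)) : H84.IsSylIn r (H84.cmap u R) K := by
  have e : H84.cmap u K = K := H84.cmap_eq_iff_mem_normalizer.2 hu
  have hle : H84.cmap u R ≤ K := (H84.cmap_mono u h.1).trans_eq e
  refine ⟨hle, h.2.1.map _, ?_⟩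
  have h1 := card_mul_relIndex hle
  rw [H84.card_cmap, ← card_mul_relIndex h.1] at h1
  rw [Nat.eq_of_mul_eq_mul_left Nat.card_pos h1]
  exact h.2.2

omit [Finite H] [Fact p.Prime] in
theorem mem_of_pow_mem_coprime {C : Subgroup H} {x : H} {m n : ℕ} (hm : x ^ m ∈ C)
    (hn : x ^ n = 1) (hc : Nat.Coprime m n) : x ∈ C := by
  have hb := Nat.gcd_eq_gcd_ab m n
  rw [hc.gcd_eq_one] at hb
  have : x ^ ((1 : ℕ) : ℤ) ∈ C := by
    rw [hb, zpow_add, zpow_mul, zpow_mul, zpow_natCast, zpow_natCast, hn, one_zpow, mul_one]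
    exact zpow_mem hm _
  simpa using this

/-- Every odd prime has an invariant Sylow subgroup of `L` centralised by the pair. -/
theorem Ctx.exists_sylow_centralized (c : Ctx p P U X T) {L : Subgroup H} (hL : Cfsg.IsComponent L)
    (hp : ¬ p ∣ Nat.card ↥(Cfsg.conjClosure L T)) {r : ℕ} [Fact r.Prime] (hr : r ≠ 2) :
    ∃ R, H84.IsSylIn r R L ∧ R ≤ centralizer (P : Set H) := by
  set L0 := Cfsg.conjClosure L T with hL0
  have hPL0 : P ≤ normalizer (L0 : Set H) := c.PX.trans (c.X_le_normalizer_conjClosure hL)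
  have hpL : ¬ p ∣ Nat.card L := fun h => hp (h.trans (card_dvd_of_le (le_conjClosure L T)))
  obtain ⟨R₀, hR₀, hPR₀⟩ := H84.exists_inv_sylow (q := r) c.pair.pgroup hpL (c.P_le_normalizer hL)
  obtain ⟨R, hR, hPR, hle⟩ := H84.exists_inv_sylow_ge (q := r) c.pair.pgroup hp hPL0
    (hR₀.1.trans (le_conjClosure L T)) hR₀.2.1 hPR₀
  refine ⟨R₀, hR₀, hle.trans ?_⟩
  -- the pair acts on `R` together with a substitute for `U`
  set V := normalizer (R : Set H) ⊓ normalizer (P : Set H) with hV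
  have hpair : IsPair p P V := by
    refine c.pair.change inf_le_right fun u hu => ?_
    have huL0 := c.U_le_normalizer_conjClosure hL hu
    have hPu : P ≤ normalizer (H84.cmap u R : Set H) := by
      intro x hx
      refine H84.cmap_eq_iff_mem_normalizer.1 ?_
      have hx' : u⁻¹ * x * u ∈ P := by
        simpa using Cfsg.Comp.conj_mem_of_le_normalizer c.pair.norm (inv_mem hu) hx
      have h := H84.cmap_eq_iff_mem_normalizer.2 (hPR hx')
      rw [H84.cmap_mul, show x * u = u * (u⁻¹ * x * u) by group, ← H84.cmap_mul, h]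
    obtain ⟨z, -, hzP, hz⟩ := H84.exists_conj_inv_sylow c.pair.pgroup hp hPL0
      (isSylIn_cmap hR huL0) hPu hR hPR
    refine ⟨z * u, ⟨H84.cmap_eq_iff_mem_normalizer.1 ?_, ?_⟩, ?_⟩
    · rw [← H84.cmap_mul, hz]
    · exact mul_mem (centralizer_le_normalizer _ hzP) (c.pair.norm hu)
    · simpa using hzP
  obtain ⟨f, hf⟩ := H80.rank2_hom_general hr hR.2.1
    (H80.pRankLE_subgroup R (c.rk r Fact.out hr)) (le_refl (normalizer (R : Set H)))
  have hkill := hpair.gl2_kill c.hp2 f hPR inf_le_left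
  suffices hPC : P ≤ centralizer (R : Set H) from le_centralizer_iff.1 hPC
  intro x hx
  obtain ⟨k, hk⟩ := hf _ (MonoidHom.mem_ker.2 (hkill ⟨x, hx⟩))
  by_cases hrp : r = p
  · subst hrp
    have : R = ⊥ := Cfsg.Comp.eq_bot_of_isPGroup_of_not_dvd hR.2.1
      fun h => hp (h.trans (card_dvd_of_le hR.1))
    rw [this]
    exact mem_centralizer_iff.2 fun y hy => by rw [mem_bot.1 hy]; simp
  · exact mem_of_pow_mem_coprime hk (c.pair.exp x hx)
      (Nat.Coprime.pow_left _ ((Nat.coprime_primes Fact.out Fact.out).2 hrp))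

/-- The pair centralises a component whose orbit has order prime to `p`. -/
theorem Ctx.centralizes_of_coprime (c : Ctx p P U X T) {L : Subgroup H} (hL : Cfsg.IsComponent L)
    (hp : ¬ p ∣ Nat.card ↥(Cfsg.conjClosure L T)) : P ≤ centralizer (L : Set H) := by
  set C := L ⊓ centralizer (P : Set H) with hC
  have hPL := c.P_le_normalizer hL
  have hpL : ¬ p ∣ Nat.card L := fun h => hp (h.trans (card_dvd_of_le (le_conjClosure L T)))
  have h2pow : ∃ k, C.relIndex L = 2 ^ k := by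
    refine ⟨_, Nat.eq_prime_pow_of_unique_prime_dvd ?_ fun {r} hr hrd => by_contra fun h2 => ?_⟩
    · exact Subgroup.index_ne_zero_of_finite
    · have := Fact.mk hr
      obtain ⟨R, hR, hRC⟩ := c.exists_sylow_centralized hL hp h2
      exact hR.2.2 (hrd.trans (relIndex_dvd_of_le_left L (le_inf hR.1 hRC)))
  obtain ⟨k, hk⟩ := h2pow
  obtain ⟨Q₀⟩ : Nonempty (Sylow 2 C) := inferInstance
  obtain ⟨hSC, hS2, hSi⟩ := H84.isSylIn_of_sylow Q₀
  set S := (Q₀ : Subgroup C).map C.subtype with hS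
  have hPS : P ≤ normalizer (S : Set H) :=
    (le_centralizer_iff.1 (hSC.trans inf_le_right)).trans (centralizer_le_normalizer _)
  obtain ⟨TL, hTL, hPTL, hSTL⟩ := H84.exists_inv_sylow_ge (q := 2) c.pair.pgroup hpL hPL
    (hSC.trans inf_le_left) hS2 hPS
  -- `L = C · TL`
  have hprod : ∀ l ∈ L, ∃ y ∈ C, y⁻¹ * l ∈ TL := by
    have h1 : ¬ 2 ∣ TL.relIndex C := fun hd => hSi (by
      rw [← inf_relIndex_right] at hd
      exact hd.trans (relIndex_dvd_of_le_left C (le_inf hSTL hSC)))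
    have h2 : (TL ⊓ C).relIndex C * C.relIndex L = (TL ⊓ C).relIndex TL * TL.relIndex L := by
      rw [relIndex_mul_relIndex _ C L inf_le_right inf_le_left,
        relIndex_mul_relIndex _ TL L inf_le_left hTL.1]
    rw [inf_relIndex_right, hk] at h2
    have h3 : TL.relIndex L ∣ TL.relIndex C := by
      refine Nat.Coprime.dvd_of_dvd_mul_right ?_ (Dvd.intro_left _ h2.symm)
      exact Nat.Coprime.pow_right _ ((Nat.prime_two.coprime_iff_not_dvd.2 hTL.2.2).symm)
    have h4 : TL.relIndex L ≤ TL.relIndex C :=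
      Nat.le_of_dvd (Nat.pos_of_ne_zero fun e => h1 (e ▸ dvd_zero 2)) h3
    let g := quotientSubgroupOfEmbeddingOfLE TL (inf_le_left : C ≤ L)
    have hb := g.injective.bijective_of_nat_card_le h4
    intro l hl
    obtain ⟨q, hq⟩ := hb.2 (QuotientGroup.mk (⟨l, hl⟩ : L))
    obtain ⟨y, rfl⟩ := QuotientGroup.mk_surjective q
    have hq' : QuotientGroup.mk (inclusion inf_le_left y) =
        (QuotientGroup.mk (⟨l, hl⟩ : L) : L ⧸ TL.subgroupOf L) := hq
    exact ⟨y, y.2, mem_subgroupOf.1 (QuotientGroup.eq.1 hq')⟩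
  set W := ⁅TL, P⁆ with hW
  have hWT : W ≤ TL := le_normalizer_iff_commutator_le_left.1 hPTL
  have hTW : TL ≤ normalizer (W : Set H) := normalizer_commutator_ge_left _ _
  have hPW : P ≤ normalizer (W : Set H) := normalizer_commutator_ge_right _ _
  have hcom : ⁅L, P⁆ ≤ normalizer (W : Set H) := by
    refine commutator_le.2 fun l hl x hx => ?_
    obtain ⟨y, hy, hyT⟩ := hprod l⁻¹ (inv_mem hl)
    have hc : y * x * y⁻¹ = x := by
      rw [mem_centralizer_iff.1 hy.2 x hx |>.symm, mul_inv_cancel_right]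
    have e : ⁅l, x⁆ = (y⁻¹ * l⁻¹)⁻¹ * x * (y⁻¹ * l⁻¹) * x⁻¹ := by
      rw [commutatorElement_def]
      conv_rhs => rw [show (y⁻¹ * l⁻¹)⁻¹ * x * (y⁻¹ * l⁻¹) = l * (y * x * y⁻¹) * l⁻¹ by group, hc]
    rw [e]
    exact mul_mem (mul_mem (mul_mem (inv_mem (hTW hyT)) (hPW hx)) (hTW hyT)) (inv_mem (hPW hx))
  have hTc : W = ⊥ → P ≤ centralizer (L : Set H) := fun hW0 => by
    have hTP : TL ≤ centralizer (P : Set H) := commutator_eq_bot_iff_le_centralizer.1 hW0
    refine le_centralizer_iff.1 fun l hl => ?_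
    obtain ⟨y, hy, hyT⟩ := hprod l hl
    simpa using mul_mem hy.2 (hTP hyT)
  have hle : ⁅L, P⁆ ≤ L := le_normalizer_iff_commutator_le_left.1 hPL
  have hn : (⁅L, P⁆.subgroupOf L).Normal :=
    normal_subgroupOf_of_le_normalizer (normalizer_commutator_ge_left _ _)
  rcases Cfsg.Comp.normal_eq_top_or_le_center hL.2 hn with h | h
  · have hLW : L ≤ normalizer (W : Set H) := (subgroupOf_eq_top.1 h).trans hcom
    have hWn : (W.subgroupOf L).Normal := normal_subgroupOf_of_le_normalizer hLW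
    have hsn : W.IsSubnormal := Subgroup.IsSubnormal.trans (hWT.trans hTL.1) hWn.isSubnormal hL.1
    exact hTc (eq_bot_iff.2 ((Cfsg.Comp.le_pCore_of_subnormal hsn (hTL.2.1.to_le hWT)).trans_eq c.o2))
  · have hc : ⁅L, P⁆ ≤ centralizer (L : Set H) := fun y hy => mem_centralizer_iff.2 fun l hl =>
      congrArg Subtype.val (mem_center_iff.1 (h (show (⟨y, hle hy⟩ : L) ∈ ⁅L, P⁆.subgroupOf L from hy)) ⟨l, hl⟩)
    exact le_centralizer_iff.1 (commutator_eq_bot_iff_le_centralizer.1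
      (Cfsg.Comp.le_centralizer_of_perfect (Cfsg.Comp.isComponent_perfect hL) hc))

omit [Finite H] [Fact p.Prime] in
theorem mem_sup_of_le_normalizer {A B : Subgroup H} (h : A ≤ normalizer (B : Set H)) {x : H}
    (hx : x ∈ A ⊔ B) : ∃ a ∈ A, ∃ b ∈ B, a * b = x := by
  rw [← SetLike.mem_coe, coe_mul_of_left_le_normalizer_right A B h, Set.mem_mul] at hx
  exact hx

omit [Finite H] [Fact p.Prime] in
/-- Conjugations on a cyclic subgroup commute. -/
theorem conj_comm_of_zpowers {w a b : H} (ha : a ∈ normalizer (zpowers w : Set H))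
    (hb : b ∈ normalizer (zpowers w : Set H)) :
    a * b * a⁻¹ * b⁻¹ ∈ centralizer (zpowers w : Set H) := by
  obtain ⟨i, hi⟩ := mem_zpowers_iff.1 ((mem_normalizer_iff.1 ha w).1 (mem_zpowers w))
  obtain ⟨j, hj⟩ := mem_zpowers_iff.1 ((mem_normalizer_iff.1 hb w).1 (mem_zpowers w))
  have h1 : a * b * w * (a * b)⁻¹ = w ^ (i * j) := by
    calc a * b * w * (a * b)⁻¹ = a * (b * w * b⁻¹) * a⁻¹ := by group
      _ = a * w ^ j * a⁻¹ := by rw [← hj]
      _ = (a * w * a⁻¹) ^ j := conj_zpow.symm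
      _ = w ^ (i * j) := by rw [← hi, ← zpow_mul]
  have h2 : b * a * w * (b * a)⁻¹ = w ^ (i * j) := by
    calc b * a * w * (b * a)⁻¹ = b * (a * w * a⁻¹) * b⁻¹ := by group
      _ = b * w ^ i * b⁻¹ := by rw [← hi]
      _ = (b * w * b⁻¹) ^ i := conj_zpow.symm
      _ = w ^ (i * j) := by rw [← hj, ← zpow_mul, mul_comm]
  have h3 : (a * b * a⁻¹ * b⁻¹) * w = w * (a * b * a⁻¹ * b⁻¹) := by
    have h4 : a * b * w * (a * b)⁻¹ = b * a * w * (b * a)⁻¹ := h1.trans h2.symm
    have h5 : w * ((a * b)⁻¹ * (b * a)) = ((a * b)⁻¹ * (b * a)) * w := by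
      have := congrArg (fun t => (a * b)⁻¹ * t * (b * a)) h4
      simpa [mul_assoc] using this
    have h6 : Commute (a * b * w * (a * b)⁻¹) (a * b * a⁻¹ * b⁻¹) := by
      show a * b * w * (a * b)⁻¹ * (a * b * a⁻¹ * b⁻¹) = a * b * a⁻¹ * b⁻¹ * (a * b * w * (a * b)⁻¹)
      conv_rhs => rw [h4]
      group
    rw [h1] at h6
    have hmem : a * b * w * (a * b)⁻¹ ∈ zpowers w := h1 ▸ zpow_mem (mem_zpowers w) _
    obtain ⟨m, hm⟩ : ∃ m : ℤ, (a * b * w * (a * b)⁻¹) ^ m = w := by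
      have hinv : (a * b)⁻¹ * w * (a * b) ∈ zpowers w := by
        simpa using (mem_normalizer_iff.1 (inv_mem (mul_mem ha hb)) w).1 (mem_zpowers w)
      obtain ⟨m, hm⟩ := mem_zpowers_iff.1 hinv
      refine ⟨m, ?_⟩
      rw [conj_zpow, hm]
      group
    rw [h1] at hm
    exact ((hm ▸ h6.zpow_left m : Commute w (a * b * a⁻¹ * b⁻¹))).symm.eq
  rw [mem_centralizer_iff]
  intro y hy
  obtain ⟨l, rfl⟩ := mem_zpowers_iff.1 hy
  exact ((show Commute (a * b * a⁻¹ * b⁻¹) w from h3).zpow_right l).eq.symm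

theorem orbit_data (c : Ctx p P U X T) {L : Subgroup H} (hL : Cfsg.IsComponent L)
    (hp : p ∣ Nat.card ↥(Cfsg.conjClosure L T)) :
    ∃ S R : Subgroup H, P ≤ S ∧ IsPGroup p S ∧ H73.SylIn p S (Cfsg.conjClosure L T ⊔ P) ∧
      R = S ⊓ Cfsg.conjClosure L T ∧ H73.SylIn p R (Cfsg.conjClosure L T) ∧
      S ≤ normalizer (R : Set H) ∧ R ≠ ⊥ ∧ (∀ s ∈ S, ∃ r ∈ R, ∃ x ∈ P, r * x = s) ∧
      S ≤ normalizer (Cfsg.conjClosure L T : Set H) := by
  set L0 := Cfsg.conjClosure L T with hL0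
  have hPL0 : P ≤ normalizer (L0 : Set H) := c.PX.trans (c.X_le_normalizer_conjClosure hL)
  obtain ⟨S, hS, hPS⟩ := H73.exists_sylIn_ge (p := p) c.pair.pgroup (le_sup_right : P ≤ L0 ⊔ P)
  have hMn : L0 ⊔ P ≤ normalizer (L0 : Set H) := sup_le le_normalizer hPL0
  have hSn : S ≤ normalizer (L0 : Set H) := hS.le.trans hMn
  obtain ⟨Q⟩ : Nonempty (Sylow p L0) := inferInstance
  have hQ := H73.SylIn.of_sylow Q
  obtain ⟨x, hxM, hx⟩ := hS.exists_conj_le hQ.isPGroup (hQ.le.trans le_sup_left)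
  have hQx := hQ.cj x
  rw [H73.mem_normalizer_iff_cj.1 (hMn hxM)] at hQx
  set R := S ⊓ L0 with hR
  have hRs : H73.SylIn p R L0 := by
    have e := hQx.eq_of_le (hS.isPGroup.to_le inf_le_left) inf_le_right (le_inf hx hQx.le)
    rwa [← e] at hQx
  have hSR : S ≤ normalizer (R : Set H) := Cfsg.Comp.inf_le_normalizer le_normalizer hSn
  refine ⟨S, R, hPS, hS.isPGroup, hS, rfl, hRs, hSR, ?_, ?_, hSn⟩
  · intro e
    have := hRs.not_dvd
    rw [e, relIndex_bot_left] at this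
    exact this hp
  · intro s hs
    have hsM : s ∈ P ⊔ L0 := sup_comm L0 P ▸ hS.le hs
    obtain ⟨y, hy, l, hl, he⟩ := mem_sup_of_le_normalizer hPL0 hsM
    have hl' : y * l * y⁻¹ ∈ L0 := Cfsg.Comp.conj_mem_of_le_normalizer hPL0 hy hl
    refine ⟨y * l * y⁻¹, mem_inf.2 ⟨?_, hl'⟩, y, hy, by rw [← he]; group⟩
    rw [show y * l * y⁻¹ = s * y⁻¹ by rw [← he]]
    exact mul_mem hs (inv_mem (hPS hy))

/-- A central element of order `p` of the Sylow intersection lies in the derived group. -/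
theorem central_mem_derived (c : Ctx p P U X T) {L : Subgroup H} (hL : Cfsg.IsComponent L)
    {S R : Subgroup H} (hPS : P ≤ S) (hRL : R ≤ Cfsg.conjClosure L T) {z : H} (hz : z ∈ R)
    (hzp : z ^ p = 1) (hzc : ∀ s ∈ S, s * z = z * s) : z ∈ ⁅P, P⁆ :=
  c.inf_conjClosure_le hL
    ⟨c.pair.mem_of_centralizes (c.rk p Fact.out c.hp2) hzp fun x hx => (hzc x (hPS hx)).symm, hRL hz⟩

/-- No normal elementary subgroup of order `p²` of the Sylow subgroup lies in the intersection. -/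
theorem false_of_normal_square (c : Ctx p P U X T) {L : Subgroup H} (hL : Cfsg.IsComponent L)
    {S A : Subgroup H} (hS : IsPGroup p S) (hPS : P ≤ S) (hAS : A ≤ S)
    (hAL : A ≤ Cfsg.conjClosure L T) (hSA : S ≤ normalizer (A : Set H))
    (hA : Cfsg.IsElementaryAbelian p A) (hAc : Nat.card A = p ^ 2) {z : H}
    (hz1 : z ≠ 1) (hzp : z ^ p = 1) (hzc : ∀ s ∈ S, s * z = z * s) (hzP : zpowers z = ⁅P, P⁆) :
    False := by
  have hr := c.rk p Fact.out c.hp2
  have hzA : z ∈ A := mem_of_rank hr hA hAc hzp fun a ha => (hzc a (hAS ha)).symm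
  obtain ⟨a, haA, haz⟩ : ∃ a ∈ A, a ∉ zpowers z := SetLike.not_le_iff_exists.1 fun hle => by
    have := card_le_of_le hle
    rw [hAc, Nat.card_zpowers, orderOf_eq_prime hzp hz1] at this
    nlinarith [(Fact.out : p.Prime).two_le]
  have hcm := H83.commutator_mem_zpowers_of_card_sq hS hAS hSA hAc hzA hz1 hzp hzc
  obtain ⟨x₁, h1, x₂, h2, h1', h2', -⟩ := c.pair.exists_two
  obtain ⟨x, hx, hxZ, hxa⟩ : ∃ x ∈ P, x ∉ ⁅P, P⁆ ∧ x * a = a * x := by
    by_cases hx1 : x₁ * a = a * x₁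
    · exact ⟨x₁, h1, h1', hx1⟩
    set d := a * x₁ * a⁻¹ * x₁⁻¹ with hd
    have hdz : d ∈ zpowers z := by
      have := inv_mem (hcm x₁ (hPS h1) a haA)
      rw [hd]
      simpa [mul_assoc] using this
    have hdgen : zpowers d = zpowers z := by
      refine eq_of_le_of_card_ge (zpowers_le.2 hdz) ?_
      have hd1 : d ≠ 1 := fun e => hx1 (by
        rw [hd, mul_inv_eq_one, mul_inv_eq_iff_eq_mul] at e
        exact e.symm)
      rw [Nat.card_zpowers, Nat.card_zpowers, orderOf_eq_prime hzp hz1,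
        orderOf_eq_prime (H83.zpow_pow_eq_one hzp hdz) hd1]
    have he : a * x₂ * a⁻¹ * x₂⁻¹ ∈ zpowers d := by
      rw [hdgen]
      have := inv_mem (hcm x₂ (hPS h2) a haA)
      simpa [mul_assoc] using this
    obtain ⟨i, hi⟩ := mem_zpowers_iff.1 he
    have hdP : d ∈ ⁅P, P⁆ := hzP ▸ hdz
    refine ⟨x₁ ^ (-i) * x₂, mul_mem (zpow_mem h1 _) h2, fun h => h2' ?_, ?_⟩
    · have e : x₂ = x₁ ^ i * (x₁ ^ (-i) * x₂) := by group
      rw [e]
      exact mul_mem (mem_sup_right (zpow_mem (mem_zpowers x₁) i)) (mem_sup_left h)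
    · have hdx : Commute d x₁ := c.pair.commutator_central d hdP x₁ h1
      have ea : a * (x₁ ^ (-i) * x₂) * a⁻¹ = x₁ ^ (-i) * x₂ := by
        calc a * (x₁ ^ (-i) * x₂) * a⁻¹ = (a * x₁ ^ (-i) * a⁻¹) * (a * x₂ * a⁻¹ * x₂⁻¹) * x₂ := by group
          _ = (d * x₁) ^ (-i) * d ^ i * x₂ := by
            rw [← conj_zpow, hi, show a * x₁ * a⁻¹ = d * x₁ by rw [hd]; group]
          _ = x₁ ^ (-i) * x₂ := by
            rw [hdx.mul_zpow, (hdx.zpow_zpow (-i) (-i)).eq]; group
      exact (mul_inv_eq_iff_eq_mul.1 ea).symm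
  have hxA : x ∈ A := mem_of_rank hr hA hAc (c.pair.exp x hx) fun b hb => by
    have hZA : zpowers z ⊔ zpowers a = A := by
      obtain ⟨h1e, h2e⟩ := elemAb_insert (Cfsg.Agent.H9.elemAb_zpowers hzp) (hA.2 a haA) haz
        (fun w hw => elemAb_comm hA haA ((zpowers_le.2 hzA) hw))
      refine eq_of_le_of_card_ge (sup_le (zpowers_le.2 hzA) (zpowers_le.2 haA)) ?_
      rw [Nat.card_zpowers, orderOf_eq_prime hzp hz1] at h2e
      rwa [hAc, pow_two]
    have : A ≤ centralizer {x} := hZA ▸ sup_le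
      (zpowers_le.2 (mem_centralizer_singleton_iff.2 (hzc x (hPS hx)).symm))
      (zpowers_le.2 (mem_centralizer_singleton_iff.2 hxa.symm))
    exact (mem_centralizer_singleton_iff.1 (this hb)).symm
  exact hxZ (c.inf_conjClosure_le hL ⟨hx, hAL hxA⟩)

/-- A non-cyclic intersection contains such a subgroup. -/
theorem false_of_not_cyclic (c : Ctx p P U X T) {L : Subgroup H} (hL : Cfsg.IsComponent L)
    {S R : Subgroup H} (hS : IsPGroup p S) (hPS : P ≤ S) (hRS : R ≤ S)
    (hRL : R ≤ Cfsg.conjClosure L T) (hSR : S ≤ normalizer (R : Set H))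
    {z : H} (hz1 : z ≠ 1) (hzp : z ^ p = 1) (hzc : ∀ s ∈ S, s * z = z * s)
    (hzP : zpowers z = ⁅P, P⁆) (hnc : ¬ IsCyclic R) : False := by
  have hr := c.rk p Fact.out c.hp2
  set Z := zpowers z with hZ
  have hZc : ∀ s ∈ S, ∀ y ∈ Z, s * y = y * s := fun s hs y hy => by
    obtain ⟨i, rfl⟩ := mem_zpowers_iff.1 hy
    exact ((show Commute s z from hzc s hs).zpow_right i).eq
  let W : Subgroup H :=
    { carrier := {w | w ∈ R ∧ w ^ p = 1 ∧ ∀ y ∈ R, y * w * y⁻¹ * w⁻¹ ∈ Z}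
      one_mem' := ⟨one_mem R, one_pow p, fun y _ => by simp⟩
      mul_mem' := fun {u v} hu hv => by
        refine ⟨mul_mem hu.1 hv.1, ?_, fun y hy => ?_⟩
        · have h1 := hv.2.2 u⁻¹ (inv_mem hu.1)
          rw [inv_inv] at h1
          have hd : v⁻¹ * u⁻¹ * v * u ∈ Z := by
            have h2 : v⁻¹ * u⁻¹ * v * u = v⁻¹ * (u⁻¹ * v * u * v⁻¹) * v := by group
            rw [h2, mul_assoc, ← hZc v (hRS hv.1) _ h1, ← mul_assoc, inv_mul_cancel, one_mul]
            exact h1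
          rw [H83.mul_pow_prime Fact.out c.hp2 (x := u) (y := v) (c := v⁻¹ * u⁻¹ * v * u) (by group)
            (hZc u (hRS hu.1) _ hd).symm (hZc v (hRS hv.1) _ hd).symm
            (H83.zpow_pow_eq_one hzp hd), hu.2.1, hv.2.1, one_mul]
        · have h1 := hu.2.2 y hy
          have h2 := hv.2.2 y hy
          have e : y * (u * v) * y⁻¹ * (u * v)⁻¹ =
              (y * u * y⁻¹ * u⁻¹) * (u * (y * v * y⁻¹ * v⁻¹) * u⁻¹) := by group
          rw [e, hZc u (hRS hu.1) _ h2, mul_inv_cancel_right]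
          exact mul_mem h1 h2
      inv_mem' := fun {u} hu => by
        refine ⟨inv_mem hu.1, by rw [inv_pow, hu.2.1, inv_one], fun y hy => ?_⟩
        have h1 := inv_mem (hu.2.2 y hy)
        have e : y * u⁻¹ * y⁻¹ * u⁻¹⁻¹ = u⁻¹ * (y * u * y⁻¹ * u⁻¹)⁻¹ * u := by group
        rw [e, mul_assoc, ← hZc u (hRS hu.1) _ h1, ← mul_assoc, inv_mul_cancel, one_mul]
        exact h1 }
  have hWS : W ≤ S := fun w hw => hRS hw.1
  have hWn : S ≤ normalizer (W : Set H) := le_normalizer_iff.2 fun s hs w hw => by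
    refine ⟨Cfsg.Comp.conj_mem_of_le_normalizer hSR hs hw.1, by rw [conj_pow, hw.2.1]; group,
      fun y hy => ?_⟩
    have hy' : s⁻¹ * y * s ∈ R := by
      simpa using Cfsg.Comp.conj_mem_of_le_normalizer hSR (inv_mem hs) hy
    have h1 := hw.2.2 _ hy'
    have e : y * (s * w * s⁻¹) * y⁻¹ * (s * w * s⁻¹)⁻¹ =
        s * ((s⁻¹ * y * s) * w * (s⁻¹ * y * s)⁻¹ * w⁻¹) * s⁻¹ := by group
    rw [e, hZc s hs _ h1, mul_inv_cancel_right]
    exact h1
  -- `W` is bigger than `Z`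
  obtain ⟨A₀, hA₀n, hA₀, hA₀c⟩ := H6.exists_normal_elementary_sq c.hp2 (hS.to_le hRS) hnc
  set A1 := A₀.map R.subtype with hA1
  have hA1R : A1 ≤ R := map_subtype_le _
  have hA1e : Cfsg.IsElementaryAbelian p A1 := H80.elemAb_map R.subtype hA₀
  have hA1c : Nat.card A1 = p ^ 2 := by rw [card_map_of_injective R.subtype_injective, hA₀c]
  have hzA1 : z ∈ A1 := mem_of_rank hr hA1e hA1c hzp fun a ha => (hzc a (hRS (hA1R ha))).symm
  have hRA1 : R ≤ normalizer (A1 : Set H) := by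
    have hn : (A1.subgroupOf R).Normal := by
      rw [hA1, subgroupOf, comap_map_eq_self_of_injective R.subtype_injective]
      exact hA₀n
    exact (normal_subgroupOf_iff_le_normalizer hA1R).1 hn
  have hA1W : A1 ≤ W := fun a ha => ⟨hA1R ha, hA1e.2 a ha,
    fun y hy => H83.commutator_mem_zpowers_of_card_sq (hS.to_le hRS) hA1R hRA1 hA1c hzA1 hz1 hzp
      (fun r hr' => hzc r (hRS hr')) y hy a ha⟩
  have hW2 : p ^ 2 ≤ Nat.card W := hA1c ▸ card_le_of_le hA1W
  have hZn : (Z.subgroupOf S).Normal := by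
    refine normal_subgroupOf_of_le_normalizer (le_normalizer_iff.2 fun s hs y hy => ?_)
    rw [hZc s hs y hy, mul_inv_cancel_right]
    exact hy
  have : (W.subgroupOf S).Normal := normal_subgroupOf_of_le_normalizer hWn
  have hZW : Z ≤ W := (zpowers_le.2 hzA1).trans hA1W
  obtain ⟨A, hAn, -, hAW, hAc⟩ := Cfsg.Agent.H9.exists_normal_between hS (W.subgroupOf S) 2
    (by rw [Cfsg.Comp.card_subgroupOf hWS]; exact hW2) (Z.subgroupOf S) hZn
    (subgroupOf_mono S hZW)
    (by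
      rw [Cfsg.Comp.card_subgroupOf (hZW.trans hWS), hZ, Nat.card_zpowers,
        orderOf_eq_prime hzp hz1]
      exact Nat.le_self_pow two_ne_zero p)
  set A' := A.map S.subtype with hA'
  have hA'W : A' ≤ W := by
    rintro _ ⟨a, ha, rfl⟩
    exact hAW ha
  have hA'c : Nat.card A' = p ^ 2 := by rw [card_map_of_injective S.subtype_injective, hAc]
  have hA'n : S ≤ normalizer (A' : Set H) := by
    have hn : (A'.subgroupOf S).Normal := by
      rw [hA', subgroupOf, comap_map_eq_self_of_injective S.subtype_injective]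
      exact hAn
    exact (normal_subgroupOf_iff_le_normalizer (map_subtype_le _)).1 hn
  have hA'e : Cfsg.IsElementaryAbelian p A' :=
    ⟨Cfsg.Agent.H9.isMulCommutative_of fun a ha b hb => congrArg Subtype.val
        ((IsPGroup.isMulCommutative_of_card_eq_prime_sq hA'c).is_comm.comm ⟨a, ha⟩ ⟨b, hb⟩),
      fun a ha => (hA'W ha).2.1⟩
  exact false_of_normal_square c hL hS hPS (map_subtype_le _) (fun a ha => hRL (hA'W ha).1)
    hA'n hA'e hA'c hz1 hzp hzc hzP

/-- A cyclic intersection is impossible. -/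
theorem false_of_cyclic (c : Ctx p P U X T) {L : Subgroup H} (hL : Cfsg.IsComponent L)
    {S R : Subgroup H} (hPS : P ≤ S) (hSy : H73.SylIn p S (Cfsg.conjClosure L T ⊔ P))
    (hR : R = S ⊓ Cfsg.conjClosure L T) (hRs : H73.SylIn p R (Cfsg.conjClosure L T))
    (hSR : S ≤ normalizer (R : Set H)) (hSn : S ≤ normalizer (Cfsg.conjClosure L T : Set H))
    {z : H} (hzR : z ∈ R) (hz1 : z ≠ 1) (hzp : z ^ p = 1) (hzc : ∀ s ∈ S, s * z = z * s)
    (hzP : zpowers z = ⁅P, P⁆) (hcy : IsCyclic R) : False := by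
  set L0 := Cfsg.conjClosure L T with hL0
  have hRS : R ≤ S := hR ▸ inf_le_left
  obtain ⟨w, hw⟩ := Subgroup.isCyclic_iff_exists_zpowers_eq_top R |>.1 hcy
  -- Burnside: the normaliser does not centralise
  obtain ⟨g, hg0, hgN, hgC⟩ : ∃ g ∈ L0, g ∈ normalizer (R : Set H) ∧
      g ∉ centralizer (R : Set H) := by
    by_contra hno
    push Not at hno
    obtain ⟨Q, hQ⟩ := hRs.exists_sylow
    have hmem : ∀ {y : L0}, y ∈ (Q : Subgroup L0) → (y : H) ∈ R := fun hy => hQ ▸ ⟨_, hy, rfl⟩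
    have hcond : normalizer ((Q : Subgroup L0) : Set L0) ≤
        centralizer ((Q : Subgroup L0) : Set L0) := by
      intro n hn
      have hnR : (n : H) ∈ normalizer (R : Set H) := by
        rw [← hQ]
        exact le_normalizer_map L0.subtype (mem_map_of_mem _ hn)
      rw [mem_centralizer_iff]
      intro y hy
      exact Subtype.ext (mem_centralizer_iff.1 (hno n n.2 hnR) y (hmem hy))
    have hc := MonoidHom.ker_transferSylow_isComplement' Q hcond
    have hperf : commutator L0 = ⊤ :=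
      (Subgroup.isPerfect_iff.2 (conjClosure_perfect hL T)).commutator_eq_top
    have hcommQ : ∀ a b : (Q : Subgroup L0), a * b = b * a := by
      intro a b
      have ha := hw ▸ hmem a.2
      have hb := hw ▸ hmem b.2
      obtain ⟨i, hi⟩ := mem_zpowers_iff.1 ha
      obtain ⟨j, hj⟩ := mem_zpowers_iff.1 hb
      exact Subtype.ext (Subtype.ext (show (a : H) * b = b * a by
        rw [← hi, ← hj, ← zpow_add, ← zpow_add, add_comm]))
    have hker : (MonoidHom.transferSylow Q hcond).ker = ⊤ := by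
      rw [eq_top_iff, ← hperf, commutator_def, Subgroup.commutator_le]
      intro a _ b _
      rw [MonoidHom.mem_ker, map_commutatorElement, commutatorElement_eq_one_iff_mul_comm]
      exact hcommQ _ _
    rw [hker, isComplement'_top_left] at hc
    have : R = ⊥ := by rw [← hQ, hc, Subgroup.map_bot]
    exact hz1 (mem_bot.1 (this ▸ hzR))
  -- adjust it to normalise `S`
  obtain ⟨n, hn0, hnR, hnS, hnC⟩ : ∃ n ∈ L0, n ∈ normalizer (R : Set H) ∧
      n ∈ normalizer (S : Set H) ∧ n ∉ centralizer (R : Set H) := by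
    set C0 := L0 ⊓ centralizer (R : Set H) with hC0
    have hSC0 : S ≤ normalizer (C0 : Set H) :=
      Cfsg.Comp.inf_le_normalizer hSn (Cfsg.Comp.le_normalizer_centralizer hSR)
    have hcomm : ∀ s ∈ S, g * s * g⁻¹ * s⁻¹ ∈ C0 := by
      intro s hs
      refine ⟨?_, ?_⟩
      · have h1 : s * g⁻¹ * s⁻¹ ∈ L0 := Cfsg.Comp.conj_mem_of_le_normalizer hSn hs (inv_mem hg0)
        rw [show g * s * g⁻¹ * s⁻¹ = g * (s * g⁻¹ * s⁻¹) by group]
        exact mul_mem hg0 h1
      · rw [← hw]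
        exact conj_comm_of_zpowers (hw ▸ hgN) (hw ▸ hSR hs)
    set K1 := S ⊔ C0 with hK1
    have hK1M : K1 ≤ L0 ⊔ P := sup_le hSy.le (inf_le_left.trans le_sup_left)
    have hgS : H73.cj g S ≤ K1 := by
      intro y hy
      obtain ⟨s, hs, rfl⟩ := hy
      show g * s * g⁻¹ ∈ K1
      rw [show g * s * g⁻¹ = (g * s * g⁻¹ * s⁻¹) * s by group]
      exact mul_mem (mem_sup_right (hcomm s hs)) (mem_sup_left hs)
    have hS1 : H73.SylIn p S K1 := hSy.of_le le_sup_left hK1M
    have hg1 : H73.SylIn p (H73.cj g S) K1 :=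
      (hSy.cj_mem (mem_sup_left hg0)).of_le hgS hK1M
    obtain ⟨k, hk, hkS⟩ := hg1.exists_conj hS1
    obtain ⟨s, hs, d, hd, rfl⟩ := mem_sup_of_le_normalizer hSC0 hk
    refine ⟨d * g, mul_mem hd.1 hg0, mul_mem (centralizer_le_normalizer _ hd.2) hgN,
      H73.mem_normalizer_iff_cj.2 ?_, fun h => hgC ?_⟩
    · rw [H73.cj_cj, mul_assoc, ← H73.cj_cj] at hkS
      have := congrArg (H73.cj s⁻¹) hkS
      rw [H73.cj_inv_cj, H73.cj_of_mem (inv_mem hs)] at this
      exact this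
    · simpa using mul_mem (inv_mem (mem_inf.1 hd).2) h
  -- an element of prime power order, prime to `p`
  obtain ⟨u, v, huv, ⟨k, hu⟩, hv, hu', hv'⟩ := H5.exists_p_decomposition (p := p) n
  have hvC : v ∉ centralizer (R : Set H) := by
    intro h
    have huS : u ∈ S := by
      have hM : u ∈ L0 ⊔ P := mem_sup_left ((zpowers_le.2 hn0) hu')
      have hpg : IsPGroup p (zpowers u) := fun y => by
        obtain ⟨i, hi⟩ := mem_zpowers_iff.1 y.2
        refine ⟨k, Subtype.ext ?_⟩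
        push_cast
        rw [← hi, ← zpow_natCast, ← zpow_mul, mul_comm, zpow_mul, zpow_natCast, hu, one_zpow]
      have huN : u ∈ normalizer (S : Set H) := (zpowers_le.2 hnS) hu'
      have hsup : IsPGroup p ↥(zpowers u ⊔ S) :=
        hpg.to_sup_of_normal_right' hSy.isPGroup (zpowers_le.2 huN)
      have e := hSy.eq_of_le hsup (sup_le (zpowers_le.2 hM) hSy.le) le_sup_right
      exact e ▸ mem_sup_left (mem_zpowers u)
    have huR : u ∈ R := hR ▸ ⟨huS, (zpowers_le.2 hn0) hu'⟩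
    refine hnC (huv ▸ mul_mem ?_ h)
    rw [← hw] at huR ⊢
    exact (le_centralizer_iff_isMulCommutative.2 inferInstance) huR
  have hv0 : v ∈ L0 := (zpowers_le.2 hn0) hv'
  have hvR : v ∈ normalizer (R : Set H) := (zpowers_le.2 hnR) hv'
  have hvS : v ∈ normalizer (S : Set H) := (zpowers_le.2 hnS) hv'
  -- a prime power part of `v` outside `C(R)`
  obtain ⟨q, m, hq, hqm, hvq⟩ : ∃ (q : ℕ) (m : ℤ), q.Prime ∧
      (∃ e, orderOf (v ^ m) = q ^ e) ∧ v ^ m ∉ centralizer (R : Set H) := by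
    by_contra hno
    push Not at hno
    refine hvC ?_
    have hle : zpowers v ≤ centralizer (R : Set H) := by
      refine Cfsg.Comp.le_of_forall_sylow_le fun q hq Q => ?_
      rintro _ ⟨⟨y, hy⟩, hyQ, rfl⟩
      obtain ⟨m, rfl⟩ := mem_zpowers_iff.1 hy
      have := Fact.mk hq
      obtain ⟨e, he⟩ := IsPGroup.iff_orderOf.1 Q.2 ⟨⟨v ^ m, hy⟩, hyQ⟩
      exact hno q m hq ⟨e, by simpa using he⟩
    exact hle (mem_zpowers v)
  set h := v ^ m with hh
  have := Fact.mk hq
  obtain ⟨e, he⟩ := hqm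
  have hhA : IsPGroup q (zpowers h) := IsPGroup.of_card (by rw [Nat.card_zpowers, he])
  have hh0 : h ∈ L0 := zpow_mem hv0 m
  have hhR : h ∈ normalizer (R : Set H) := zpow_mem hvR m
  have hhS : h ∈ normalizer (S : Set H) := zpow_mem hvS m
  have hhop : Nat.Coprime (orderOf h) p :=
    Nat.Coprime.coprime_dvd_left (orderOf_dvd_of_mem_zpowers (zpow_mem (mem_zpowers v) m)) hv
  have hqR : ¬ q ∣ Nat.card R := by
    intro hd
    obtain ⟨i, hi⟩ := hRs.isPGroup.exists_card_eq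
    rw [hi] at hd
    have hqp := (Nat.prime_dvd_prime_iff_eq hq (Fact.out : p.Prime)).1 (hq.dvd_of_dvd_pow hd)
    rcases e with _ | e
    · rw [pow_zero, orderOf_eq_one_iff] at he
      exact hvq (he ▸ one_mem _)
    · rw [he, hqp] at hhop
      exact (Fact.out : p.Prime).not_dvd_one (hhop ▸ Nat.dvd_gcd (dvd_pow_self p e.succ_ne_zero) dvd_rfl)
  -- `h` fixes nothing in `R`
  have hfix : ∀ y ∈ R, h * y = y * h → y = 1 := by
    intro y hy hc
    by_contra hy1
    obtain ⟨i, hi⟩ := (hRs.isPGroup.to_le (zpowers_le.2 hy)).exists_card_eq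
    obtain ⟨i, rfl⟩ : ∃ i', i = i' + 1 := ⟨i - 1, by
      rcases i with _ | i
      · rw [pow_zero, Nat.card_zpowers, orderOf_eq_one_iff] at hi
        exact absurd hi hy1
      · omega⟩
    rw [Nat.card_zpowers] at hi
    set y' := y ^ p ^ i with hy'
    have hy'o : orderOf y' = p := by
      rw [hy', orderOf_pow' y (pow_ne_zero _ (Fact.out : p.Prime).ne_zero), hi,
        Nat.gcd_eq_right ⟨p, pow_succ p i⟩, pow_succ,
        Nat.mul_div_cancel_left _ (pow_pos (Fact.out : p.Prime).pos i)]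
    have hy'C : h * y' = y' * h := ((show Commute h y from hc).pow_right _).eq
    -- elements of order `p` of the cyclic group `R` are powers of `y'`
    have homega : ∀ r ∈ R, r ^ p = 1 → r ∈ zpowers y' := by
      intro r hr hrp
      by_contra hrn
      have hab : ∀ a ∈ R, ∀ b ∈ R, a * b = b * a := fun a ha b hb => by
        rw [← hw] at ha hb
        obtain ⟨i, rfl⟩ := mem_zpowers_iff.1 ha
        obtain ⟨j, rfl⟩ := mem_zpowers_iff.1 hb
        rw [← zpow_add, ← zpow_add, add_comm]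
      have hyR : y' ∈ R := pow_mem hy _
      have hE := (elemAb_insert (Cfsg.Agent.H9.elemAb_zpowers
        (show y' ^ p = 1 by rw [← hy'o, pow_orderOf_eq_one])) hrp hrn
        (fun b hb => hab r hr b ((zpowers_le.2 hyR) hb)))
      set E := zpowers y' ⊔ zpowers r with hEdef
      have hER : E ≤ R := sup_le (zpowers_le.2 hyR) (zpowers_le.2 hr)
      have hcE : IsCyclic E := isCyclic_of_injective (inclusion hER) (inclusion_injective hER)
      have h1 := hE.2
      rw [Nat.card_zpowers, hy'o, ← IsCyclic.exponent_eq_card] at h1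
      have h2 : Monoid.exponent E ∣ p :=
        Monoid.exponent_dvd_of_forall_pow_eq_one fun x => Subtype.ext (hE.1.2 x x.2)
      have h3 := Nat.le_of_dvd (Fact.out : p.Prime).pos h2
      nlinarith [(Fact.out : p.Prime).two_le]
    let φ : MulAut R := normalizerMonoidHom R ⟨h, hhR⟩
    have hord : Nat.Coprime (orderOf φ) p :=
      Nat.Coprime.coprime_dvd_left ((orderOf_map_dvd (normalizerMonoidHom R) ⟨h, hhR⟩).trans
        (Subgroup.orderOf_mk h hhR).dvd) hhop
    have h1 := H6.eq_one_of_fixes_omega_one c.hp2 hRs.isPGroup φ hord fun r hr => by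
      refine Subtype.ext ?_
      show h * r * h⁻¹ = r
      obtain ⟨l, hl⟩ := mem_zpowers_iff.1 (homega r r.2 (by simpa using congrArg Subtype.val hr))
      rw [← hl, ((show Commute h y' from hy'C).zpow_right l).eq, mul_inv_cancel_right]
    refine hvq (mem_centralizer_iff.2 fun r hr => ?_)
    have h2 : h * r * h⁻¹ = r := congrArg Subtype.val (DFunLike.congr_fun h1 (⟨r, hr⟩ : R))
    exact (mul_inv_eq_iff_eq_mul.1 h2).symm
  -- centralisers of `h` cover `S / R`
  have hcover : ∀ x ∈ P, ∃ d ∈ R, (d * x) * h = h * (d * x) := by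
    intro x hx
    obtain ⟨d, hd, hdx⟩ := Cfsg.Comp.exists_mul_mem_centralizer hhA (zpowers_le.2 hhR) hqR x
      (fun a ha => by
        rw [hR]
        refine mem_inf.2 ⟨mul_mem ((mem_normalizer_iff.1 ((zpowers_le.2 hhS) ha) x).1 (hPS hx))
          (inv_mem (hPS hx)), ?_⟩
        have ha0 : a ∈ L0 := (zpowers_le.2 hh0) ha
        rw [show a * x * a⁻¹ * x⁻¹ = a * (x * a⁻¹ * x⁻¹) by group]
        exact mul_mem ha0 (Cfsg.Comp.conj_mem_of_le_normalizer hSn (hPS hx) (inv_mem ha0)))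
    exact ⟨d, hd, (mem_centralizer_iff.1 hdx h (mem_zpowers h)).symm⟩
  obtain ⟨x₁, h1, x₂, h2, h1', h2', -⟩ := c.pair.exists_two
  obtain ⟨d₁, hd₁, hc₁⟩ := hcover x₁ h1
  obtain ⟨d₂, hd₂, hc₂⟩ := hcover x₂ h2
  set y₁ := d₁ * x₁ with hy₁
  set y₂ := d₂ * x₂ with hy₂
  have hyS : ∀ {d x : H}, d ∈ R → x ∈ P → d * x ∈ S := fun hd hx => mul_mem (hRS hd) (hPS hx)
  have hpow : ∀ {d x : H}, d ∈ R → x ∈ P → (d * x) * h = h * (d * x) → (d * x) ^ p = 1 := by
    intro d x hd hx hc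
    refine hfix _ ?_ ((show Commute h (d * x) from hc.symm).pow_right p).eq
    rw [hR]
    refine mem_inf.2 ⟨pow_mem (hyS hd hx) p, ?_⟩
    have key : ∀ i : ℕ, (d * x) ^ i * (x ^ i)⁻¹ ∈ L0 := by
      intro i
      induction i with
      | zero => simp
      | succ i ih =>
        have hd0 : x ^ i * d * (x ^ i)⁻¹ ∈ L0 :=
          Cfsg.Comp.conj_mem_of_le_normalizer hSn (pow_mem (hPS hx) i) ((hR ▸ hd : d ∈ S ⊓ L0).2)
        have e : (d * x) ^ (i + 1) * (x ^ (i + 1))⁻¹ =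
            ((d * x) ^ i * (x ^ i)⁻¹) * (x ^ i * d * (x ^ i)⁻¹) := by
          rw [pow_succ, pow_succ]; group
        rw [e]
        exact mul_mem ih hd0
    simpa [c.pair.exp x hx] using key p
  have hcomm12 : y₁ * y₂ = y₂ * y₁ := by
    rw [← commutatorElement_eq_one_iff_mul_comm]
    refine hfix _ ?_ ?_
    · rw [hR]
      refine mem_inf.2 ⟨commutator_le_self S (commutator_mem_commutator (hyS hd₁ h1) (hyS hd₂ h2)), ?_⟩
      have hP : ⁅x₁, x₂⁆ ∈ L0 :=
        hRs.le ((zpowers_le.2 hzR) (hzP.symm ▸ commutator_mem_commutator h1 h2))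
      have hd1' : d₁ ∈ L0 := hRs.le hd₁
      have hd2' : d₂ ∈ L0 := hRs.le hd₂
      have n1 := Cfsg.Comp.conj_mem_of_le_normalizer hSn (hPS h1) hd2'
      have n2 := Cfsg.Comp.conj_mem_of_le_normalizer hSn (hPS h2) (inv_mem hd1')
      have e : ⁅d₁ * x₁, d₂ * x₂⁆ = d₁ * (x₁ * d₂ * x₁⁻¹) * ⁅x₁, x₂⁆ *
          (x₂ * d₁⁻¹ * x₂⁻¹) * d₂⁻¹ := by
        simp [commutatorElement_def]; group
      rw [hy₁, hy₂, e]
      exact mul_mem (mul_mem (mul_mem (mul_mem hd1' n1) hP) n2) (inv_mem hd2')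
    · have c1 : Commute h y₁ := hc₁.symm
      have c2 : Commute h y₂ := hc₂.symm
      rw [commutatorElement_def]
      exact (((c1.mul_right c2).mul_right c1.inv_right).mul_right c2.inv_right).eq
  have hnot : ∀ {d x : H}, d ∈ R → x ∈ P → x ∉ ⁅P, P⁆ → d * x ∉ R := fun {d x} hd hx hxZ hm =>
    hxZ (c.inf_conjClosure_le hL ⟨hx, hRs.le (by simpa using mul_mem (inv_mem hd) hm)⟩)
  refine false_of_three (c.rk p Fact.out c.hp2) (hpow hd₂ h2 hc₂) (hpow hd₁ h1 hc₁) hzp
    hcomm12.symm (hzc _ (hyS hd₂ h2)) (hzc _ (hyS hd₁ h1)) hz1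
    (fun hm => hnot hd₁ h1 h1' ((zpowers_le.2 hzR) hm)) ?_
  intro hm
  have hRP : zpowers z ⊔ zpowers y₁ ≤ R ⊔ zpowers x₁ := sup_le
    ((zpowers_le.2 hzR).trans le_sup_left)
    (zpowers_le.2 (mul_mem (mem_sup_left hd₁) (mem_sup_right (mem_zpowers x₁))))
  have hx₂m : x₂ ∈ R ⊔ zpowers x₁ := by
    have := mul_mem (inv_mem (mem_sup_left (T := zpowers x₁) hd₂)) (hRP hm)
    simpa using this
  rw [sup_comm] at hx₂m
  obtain ⟨a, ha, b, hb, hab⟩ :=
    mem_sup_of_le_normalizer ((zpowers_le.2 (hPS h1)).trans hSR) hx₂m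
  have hbP : b ∈ P := by
    rw [show b = a⁻¹ * x₂ by rw [← hab]; group]
    exact mul_mem (inv_mem ((zpowers_le.2 h1) ha)) h2
  exact h2' (hab ▸ mul_mem (mem_sup_right ha)
    (mem_sup_left (c.inf_conjClosure_le hL ⟨hbP, hRs.le hb⟩)))

/-- The pair centralises every component. -/
theorem Ctx.centralizes_component (c : Ctx p P U X T) {L : Subgroup H}
    (hL : Cfsg.IsComponent L) : P ≤ centralizer (L : Set H) := by
  by_cases hp : p ∣ Nat.card ↥(Cfsg.conjClosure L T)
  · exfalso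
    obtain ⟨S, R, hPS, hS, hSy, hR, hRs, hSR, hRne, -, hSn⟩ := orbit_data c hL hp
    have hRS : R ≤ S := hR ▸ inf_le_left
    obtain ⟨z, hzR, hz1, hzp, hzc⟩ := H83.exists_central_order_p_mem hS hRS hSR hRne
    have hzD := central_mem_derived c hL hPS hRs.le hzR hzp hzc
    have hzP : zpowers z = ⁅P, P⁆ := by
      refine eq_of_le_of_card_ge (zpowers_le.2 hzD) ?_
      rw [Nat.card_zpowers, orderOf_eq_prime hzp hz1]
      rcases c.pair.cases' with ⟨_, h⟩ | ⟨_, h⟩
      · rw [h, card_bot]; exact (Fact.out : p.Prime).pos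
      · rw [h]
    by_cases hcy : IsCyclic R
    · exact false_of_cyclic c hL hPS hSy hR hRs hSR hSn hzR hz1 hzp hzc hzP hcy
    · exact false_of_not_cyclic c hL hS hPS hRS hRs.le hSR hz1 hzp hzc hzP hcy
  · exact c.centralizes_of_coprime hL hp

end H62.XU
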