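import Cfsg.Agent.H62.Xi.Tools
import Cfsg.Agent.H31.Basic
import Cfsg.Agent.H73.Conj

/-!
The structure of a member of `Ξ(G, T)`: a Sylow `p`-complement of `O₂(X)` with an irreducible
group of operators.
-/

set_option autoImplicit false

namespace H62.XU

open Subgroup
open scoped commutatorElement

theorem comap_mk_characteristic {X : Type*} [Group X] (N : Subgroup X) [N.Normal]
    [hN : N.Characteristic] (C : Subgroup (X ⧸ N)) [hC : C.Characteristic] :
    (C.comap (QuotientGroup.mk' N)).Characteristic := by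
  refine characteristic_iff_comap_eq.2 fun φ => ?_
  let ψ : X ⧸ N ≃* X ⧸ N := QuotientGroup.congr N N φ (characteristic_iff_map_eq.1 hN φ)
  have e : (QuotientGroup.mk' N).comp φ.toMonoidHom = ψ.toMonoidHom.comp (QuotientGroup.mk' N) := by
    ext x; rfl
  rw [comap_comap, e, ← comap_comap, characteristic_iff_comap_eq.1 hC ψ]

section Quotient

variable {Q : Type*} [Group Q] [Finite Q] {p : ℕ} [Fact p.Prime]

/-- Exponent, derived group and Frattini subgroup of `X / O₂(X)`. -/
theorem quotient_facts (hp : p ≠ 2)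
    (h : (Nat.card Q = p ^ 2 ∧ IsMulCommutative Q ∧ ∀ x : Q, x ^ p = 1) ∨
      (Nat.card Q = p ^ 3 ∧ ¬ IsMulCommutative Q))
    (hirr : ∀ C : Subgroup Q, C.Characteristic → frattini Q ≤ C → C = frattini Q ∨ C = ⊤) :
    (∀ x : Q, x ^ p = 1) ∧ frattini Q ≤ commutator Q ∧
      ((Nat.card Q = p ^ 2 ∧ commutator Q = ⊥) ∨
        (Nat.card Q = p ^ 3 ∧ Nat.card ↥(commutator Q) = p)) := by
  have hp' : p.Prime := Fact.out
  rcases h with ⟨h1, h2, h3⟩ | ⟨h1, h2⟩
  · have hc : commutator Q = ⊥ := by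
      rw [_root_.commutator_def, eq_bot_iff, Subgroup.commutator_le]
      intro a _ b _
      rw [mem_bot, commutatorElement_eq_one_iff_mul_comm]
      exact h2.is_comm.comm a b
    exact ⟨h3, H31.frattini_le_of_pow_mem hp' _ le_rfl fun x => by rw [h3 x]; exact one_mem _,
      Or.inl ⟨h1, hc⟩⟩
  have hQ : IsPGroup p Q := IsPGroup.of_card h1
  have hne : ∀ C : Subgroup Q, IsMulCommutative ↥C → C ≠ ⊤ := fun C hC e => by
    subst e
    exact h2 ⟨⟨fun a b => congrArg Subtype.val (hC.is_comm.comm ⟨a, mem_top a⟩ ⟨b, mem_top b⟩)⟩⟩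
  have : Nontrivial Q := Finite.one_lt_card_iff_nontrivial.1 (h1 ▸ Nat.one_lt_pow three_ne_zero hp'.one_lt)
  -- the centre has order `p` and elementary quotient
  obtain ⟨i, hi⟩ := (hQ.to_subgroup (center Q)).exists_card_eq
  have hquot : Nat.card (Q ⧸ center Q) * p ^ i = p ^ 3 := by
    rw [← hi, ← h1, ← card_eq_card_quotient_mul_card_subgroup]
  obtain ⟨j, hj⟩ := (hQ.to_quotient (center Q)).exists_card_eq
  have hij : j + i = 3 := by
    rw [hj, ← pow_add] at hquot
    exact Nat.pow_right_injective hp'.two_le hquot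
  have hnc : ¬ IsCyclic (Q ⧸ center Q) := fun hcy =>
    h2 (isMulCommutative_of_isCyclic_quotient_center_self Q)
  have hi1 : i = 1 := by
    have hpos : 0 < i := by
      rcases Nat.eq_zero_or_pos i with e | e
      · exfalso
        have := hQ.center_nontrivial
        have h3 : 1 < Nat.card (center Q) := Finite.one_lt_card
        rw [hi, e, pow_zero] at h3
        exact lt_irrefl 1 h3
      · exact e
    have hj2 : 2 ≤ j := by
      by_contra hlt
      apply hnc
      rcases (show j = 0 ∨ j = 1 by omega) with e | e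
      · rw [e, pow_zero] at hj
        have := (Nat.card_eq_one_iff_unique.1 hj).1
        exact isCyclic_of_subsingleton
      · rw [e, pow_one] at hj
        exact isCyclic_of_prime_card hj
    omega
  subst hi1
  rw [pow_one] at hi
  have hjv : j = 2 := by omega
  subst hjv
  have hqcomm : IsMulCommutative (Q ⧸ center Q) := IsPGroup.isMulCommutative_of_card_eq_prime_sq hj
  have hqexp : ∀ x : Q, x ^ p ∈ center Q := fun x => by
    rw [← QuotientGroup.eq_one_iff, QuotientGroup.mk_pow]
    have hd : orderOf (x : Q ⧸ center Q) ∣ p ^ 2 := hj ▸ orderOf_dvd_natCard _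
    obtain ⟨k, hk, hk'⟩ := (Nat.dvd_prime_pow hp').1 hd
    rcases (show k ≤ 1 ∨ k = 2 by omega) with hk1 | rfl
    · exact orderOf_dvd_iff_pow_eq_one.1 (hk' ▸ (pow_dvd_pow p hk1).trans (by rw [pow_one]))
    · exact absurd (isCyclic_of_orderOf_eq_card _ (hk'.trans hj.symm)) hnc
  have hcommle : commutator Q ≤ center Q := by
    rw [_root_.commutator_def, Subgroup.commutator_le]
    intro a _ b _
    rw [← QuotientGroup.eq_one_iff, ← QuotientGroup.mk'_apply, map_commutatorElement,
      commutatorElement_eq_one_iff_mul_comm]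
    exact hqcomm.is_comm.comm _ _
  have hcz : commutator Q = center Q := by
    refine eq_of_le_of_card_ge hcommle ?_
    rw [hi]
    obtain ⟨k, hk⟩ := (hQ.to_subgroup (commutator Q)).exists_card_eq
    rcases k with _ | k
    · exfalso
      apply h2
      rw [pow_zero, card_eq_one] at hk
      refine ⟨⟨fun a b => ?_⟩⟩
      rw [← commutatorElement_eq_one_iff_mul_comm, ← mem_bot, ← hk]
      exact commutator_mem_commutator (mem_top a) (mem_top b)
    · rw [hk]; exact Nat.le_self_pow k.succ_ne_zero p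
  have hfz : frattini Q ≤ center Q := H31.frattini_le_of_pow_mem hp' _ hcommle hqexp
  -- the `p`-power map
  have hzexp : ∀ z ∈ center Q, z ^ p = 1 := fun z hz => by
    have h4 : (⟨z, hz⟩ : center Q) ^ Nat.card (center Q) = 1 := pow_card_eq_one'
    rw [hi] at h4
    simpa using congrArg Subtype.val h4
  let pw : Q →* center Q :=
    MonoidHom.mk' (fun x => ⟨x ^ p, hqexp x⟩) fun a b => Subtype.ext (by
      show (a * b) ^ p = a ^ p * b ^ p
      have hc : a⁻¹ * b⁻¹ * a * b ∈ center Q := hcommle (by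
        have := commutator_mem_commutator (mem_top a⁻¹) (mem_top b⁻¹)
        rw [_root_.commutator_def]
        simpa [commutatorElement_def] using this)
      have hc' : b⁻¹ * a⁻¹ * b * a ∈ center Q := by
        have := inv_mem hc
        simpa [mul_assoc] using this
      exact H83.mul_pow_prime hp' hp (c := b⁻¹ * a⁻¹ * b * a) (by group)
        (mem_center_iff.1 hc' a).symm (mem_center_iff.1 hc' b).symm (hzexp _ hc'))
  have hchar : pw.ker.Characteristic := characteristic_iff_comap_eq.2 fun φ => by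
    ext x
    rw [mem_comap, MonoidHom.mem_ker, MonoidHom.mem_ker, Subtype.ext_iff, Subtype.ext_iff]
    show (φ x) ^ p = 1 ↔ x ^ p = 1
    rw [← map_pow, φ.map_eq_one_iff]
  have hidx : pw.ker.index ≤ p := by
    rw [index_ker, ← hi]
    exact card_le_card_group _
  have hker : frattini Q ≤ pw.ker := by
    rw [← hcz] at hfz
    refine hfz.trans ?_
    intro x hx
    rw [hcz] at hx
    exact Subtype.ext (hzexp x hx)
  have hexp : ∀ x : Q, x ^ p = 1 := by
    rcases hirr pw.ker hchar hker with e | e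
    · exfalso
      have h5 := card_mul_index pw.ker
      have h6 : Nat.card pw.ker ≤ p := e ▸ hi ▸ card_le_of_le hfz
      have h7 : p ^ 3 ≤ p * p := h1 ▸ h5 ▸ Nat.mul_le_mul h6 hidx
      rw [← pow_two] at h7
      exact absurd ((Nat.pow_le_pow_iff_right hp'.one_lt).1 h7) (by omega)
    · intro x
      have hx : x ∈ pw.ker := by rw [e]; exact mem_top x
      have hx1 : pw x = 1 := hx
      exact congrArg Subtype.val hx1
  exact ⟨hexp, hcz ▸ hfz, Or.inr ⟨h1, hcz ▸ hi⟩⟩

end Quotient

section XiMember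

variable {G : Type*} [Group G] [Finite G]

omit [Finite G] in
theorem natCard_quotient_dvd {X : Subgroup G} {p : ℕ}
    (h : (Nat.card (X ⧸ Cfsg.pCore 2 X) = p ^ 2 ∧ IsMulCommutative (X ⧸ Cfsg.pCore 2 X) ∧
        ∀ x : X ⧸ Cfsg.pCore 2 X, x ^ p = 1) ∨
      (Nat.card (X ⧸ Cfsg.pCore 2 X) = p ^ 3 ∧ ¬ IsMulCommutative (X ⧸ Cfsg.pCore 2 X))) :
    ∃ a, Nat.card (X ⧸ Cfsg.pCore 2 X) = p ^ a ∧ 2 ≤ a := by
  rcases h with ⟨h, -⟩ | ⟨h, -⟩
  · exact ⟨2, h, le_rfl⟩
  · exact ⟨3, h, by omega⟩

/-- What the argument uses about a member of `Ξ(G, T)`. -/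
theorem exists_pair {T X : Subgroup G} (hX : X ∈ Cfsg.Xi T) :
    ∃ (p : ℕ) (P U : Subgroup G), p.Prime ∧ p ≠ 2 ∧ IsPair p P U ∧ P ≤ X ∧
      (∀ N : Subgroup G, P ≤ N → X ≤ normalizer (N : Set G) → X ≤ N) ∧ U ≤ X ⊔ T := by
  obtain ⟨hgen, hTX, -, ⟨p, hp, hp2, hcase⟩, hirr⟩ := hX
  have := Fact.mk hp
  set O := Cfsg.pCore 2 X with hO
  set q := QuotientGroup.mk' O with hq
  have hqs : Function.Surjective q := QuotientGroup.mk'_surjective _
  have hphi : Cfsg.twoPhiCore X = ((frattini (X ⧸ O)).comap q).map X.subtype := rfl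
  have hnorm : ∀ C : Subgroup (X ⧸ O), C.Characteristic →
      normalizer (X : Set G) ≤ normalizer ((C.comap q).map X.subtype : Set G) := fun C hC => by
    have := comap_mk_characteristic O C (hC := hC)
    exact Cfsg.Comp.le_normalizer_map_subtype _
  have hirrC : ∀ C : Subgroup (X ⧸ O), C.Characteristic → frattini (X ⧸ O) ≤ C →
      C = frattini (X ⧸ O) ∨ C = ⊤ := by
    intro C hC hle
    rcases hirr _ (hphi ▸ map_mono (comap_mono hle)) (map_subtype_le _) (hTX.trans (hnorm C hC))
      with h | h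
    · left
      rw [hphi] at h
      exact comap_injective hqs (map_injective X.subtype_injective h)
    · right
      refine comap_injective hqs (map_injective X.subtype_injective (h.trans ?_))
      rw [comap_top, ← MonoidHom.range_eq_map, range_subtype]
  obtain ⟨hexp, hfr, hcases⟩ := quotient_facts hp2 hcase hirrC
  obtain ⟨a, ha, -⟩ := natCard_quotient_dvd hcase
  -- a Sylow subgroup maps isomorphically
  obtain ⟨P₀⟩ : Nonempty (Sylow p X) := inferInstance
  set P' := (P₀ : Subgroup X) with hP'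
  have hinj : ∀ x ∈ P', q x = 1 → x = 1 := by
    intro x hx hx1
    have hxO : x ∈ O := (QuotientGroup.eq_one_iff x).1 hx1
    have hOp : IsPGroup 2 O := Cfsg.Comp.pCore_isPGroup 2
    have hd : ¬ p ∣ Nat.card O := fun hd => by
      obtain ⟨k, hk⟩ := hOp.exists_card_eq
      exact hp2 ((Nat.prime_dvd_prime_iff_eq hp Nat.prime_two).1 (hp.dvd_of_dvd_pow (hk ▸ hd)))
    exact mem_bot.1 (Cfsg.Comp.inf_eq_bot_of_isPGroup P₀.2 hd ▸ ⟨hx, hxO⟩)
  have hPtop : P'.map q = ⊤ := by
    rw [← index_eq_one]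
    have h1 : (P'.map q).index ∣ P'.index := index_map_dvd _ hqs
    have h2 : (P'.map q).index ∣ p ^ a := ha ▸ index_dvd_card _
    exact Nat.eq_one_of_dvd_coprimes (Nat.Coprime.pow_left a
      ((hp.coprime_iff_not_dvd).2 P₀.not_dvd_index)) h2 h1
  set P := P'.map X.subtype with hPdef
  have hPX : P ≤ X := map_subtype_le _
  have hcardP : ∀ K ≤ P', Nat.card (K.map q) = Nat.card K := fun K hK =>
    (Nat.card_congr (Equiv.ofBijective (q.subgroupMap K) ⟨(injective_iff_map_eq_one _).2 fun x hx =>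
      Subtype.ext (hinj x (hK x.2) (congrArg Subtype.val hx)), q.subgroupMap_surjective K⟩)).symm
  have hZ' : ⁅P', P'⁆.map q = commutator (X ⧸ O) := by rw [map_commutator, hPtop, _root_.commutator_def]
  have hZ : ⁅P, P⁆ = ⁅P', P'⁆.map X.subtype := (map_commutator _ _ _).symm
  have hXgen : ∀ N : Subgroup G, P ≤ N → X ≤ normalizer (N : Set G) → X ≤ N := by
    intro N hPN hN
    set N' := N.subgroupOf X with hN'
    have hn : N'.Normal := ⟨fun n hn g =>
      mem_subgroupOf.2 (Cfsg.Comp.conj_mem_of_le_normalizer hN g.2 (mem_subgroupOf.1 hn))⟩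
    have hPN' : P' ≤ N' := fun x hx => mem_subgroupOf.2 (hPN ⟨x, hx, rfl⟩)
    have hsup : N' ⊔ O = ⊤ := by
      have h1 : (N' ⊔ O).map q = ⊤ := top_le_iff.1 (hPtop ▸ map_mono (hPN'.trans le_sup_left))
      rw [← QuotientGroup.ker_mk' O, ← comap_map_eq (QuotientGroup.mk' O),
        show N'.map (QuotientGroup.mk' O) = ⊤ from top_le_iff.1 (hPtop ▸ map_mono hPN'), comap_top]
    refine hgen.ge.trans ((closure_le N).2 ?_)
    rintro x ⟨hx, hodd⟩
    obtain ⟨n, hn', o, ho, hno⟩ := mem_sup_of_normal_left.1 (hsup ▸ mem_top (⟨x, hx⟩ : X))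
    obtain ⟨k, hk⟩ := Cfsg.Comp.pCore_isPGroup 2 (G := X) ⟨o, ho⟩
    have h1 : QuotientGroup.mk' N' (⟨x, hx⟩ : X) = QuotientGroup.mk' N' o := by
      rw [← hno, map_mul, show QuotientGroup.mk' N' n = 1 from (QuotientGroup.eq_one_iff n).2 hn',
        one_mul]
    have h2 : (⟨x, hx⟩ : X) ^ 2 ^ k ∈ N' := by
      rw [← QuotientGroup.eq_one_iff, ← QuotientGroup.mk'_apply, map_pow, h1, ← map_pow,
        show o ^ 2 ^ k = 1 by simpa using congrArg Subtype.val hk, map_one]
    have h3 : x ^ 2 ^ k ∈ N := by simpa using mem_subgroupOf.1 h2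
    have hb := Nat.gcd_eq_gcd_ab (2 ^ k) (orderOf x)
    rw [((Nat.coprime_two_left.2 hodd).pow_left k).gcd_eq_one] at hb
    have : x ^ ((1 : ℕ) : ℤ) ∈ N := by
      rw [hb, zpow_add, zpow_mul, zpow_mul, zpow_natCast, zpow_natCast, pow_orderOf_eq_one,
        one_zpow, mul_one]
      exact zpow_mem h3 _
    simpa using this
  refine ⟨p, P, (X ⊔ T) ⊓ normalizer (P : Set G), hp, hp2,
    ⟨?_, inf_le_right, ?_, ?_⟩, hPX, hXgen, inf_le_left⟩
  · rintro _ ⟨x, hx, rfl⟩
    have h1 : x ^ p = 1 := hinj _ (pow_mem hx p) (by rw [map_pow]; exact hexp _)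
    simpa using congrArg Subtype.val h1
  · rw [hZ, hPdef, Cfsg.Comp.card_map_subtype, Cfsg.Comp.card_map_subtype, map_eq_bot_iff_of_injective _ X.subtype_injective]
    rw [← hcardP P' le_rfl, ← hcardP _ (Subgroup.commutator_le_self P'), hPtop, hZ', card_top]
    rcases hcases with ⟨h1, h2⟩ | ⟨h1, h2⟩
    · refine Or.inl ⟨h1, eq_bot_iff.2 fun x hx => mem_bot.2 (hinj x (Subgroup.commutator_le_self P' hx) ?_)⟩
      exact mem_bot.1 (h2 ▸ hZ' ▸ mem_map_of_mem q hx)
    · exact Or.inr ⟨h1, h2⟩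
  · intro N hN hPN hUN
    have hphiX : Cfsg.twoPhiCore X ≤ X := map_subtype_le _
    have hXphi : X ≤ normalizer (Cfsg.twoPhiCore X : Set G) :=
      hphi ▸ le_normalizer.trans (hnorm _ inferInstance)
    set Y := N ⊔ Cfsg.twoPhiCore X with hY
    set OG := O.map X.subtype with hOG
    have hOphi : OG ≤ Cfsg.twoPhiCore X := hphi ▸ map_mono (fun x hx => by
      rw [mem_comap, show q x = 1 from (QuotientGroup.eq_one_iff x).2 hx]
      exact one_mem _)
    have hXPO : X ≤ P ⊔ OG := by
      rw [hPdef, hOG, ← Subgroup.map_sup]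
      have : P' ⊔ O = ⊤ := by
        rw [← QuotientGroup.ker_mk' O, ← comap_map_eq, hPtop, comap_top]
      rw [this, ← MonoidHom.range_eq_map, range_subtype]
    have hOY : OG ≤ normalizer (Y : Set G) :=
      (hOphi.trans le_sup_right).trans le_normalizer
    have hXY : X ≤ normalizer (Y : Set G) :=
      hXPO.trans (sup_le (Cfsg.Comp.sup_le_normalizer hPN (hPX.trans hXphi)) hOY)
    have hUY : (X ⊔ T) ⊓ normalizer (P : Set G) ≤ normalizer (Y : Set G) := by
      refine Cfsg.Comp.sup_le_normalizer hUN ((inf_le_left.trans (sup_le ?_ ?_)))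
      · exact hXphi
      · exact hphi ▸ hTX.trans (hnorm _ inferInstance)
    have hTY : T ≤ normalizer (Y : Set G) := by
      intro t ht
      have hsP : H73.SylIn p P X := H73.SylIn.of_sylow P₀
      have hsP' := hsP.cj t
      rw [H73.mem_normalizer_iff_cj.1 (hTX ht)] at hsP'
      obtain ⟨x, hx, hxP⟩ := hsP'.exists_conj hsP
      rw [H73.cj_cj] at hxP
      have hu : x * t ∈ (X ⊔ T) ⊓ normalizer (P : Set G) :=
        mem_inf.2 ⟨mul_mem (mem_sup_left hx) (mem_sup_right ht), H73.mem_normalizer_iff_cj.2 hxP⟩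
      simpa using mul_mem (inv_mem (hXY hx)) (hUY hu)
    rcases hirr Y le_sup_right (sup_le (hN.trans hPX) hphiX) hTY with h | h
    · right
      intro n hn
      have hnphi : n ∈ Cfsg.twoPhiCore X := h ▸ mem_sup_left hn
      rw [hphi] at hnphi
      obtain ⟨m, hm, rfl⟩ := hnphi
      obtain ⟨m', hm', he⟩ := hN hn
      obtain rfl := X.subtype_injective he
      obtain ⟨z, hz, hzm⟩ := (hZ'.symm ▸ hfr hm : q m' ∈ ⁅P', P'⁆.map q)
      have hzP : z ∈ P' := Subgroup.commutator_le_self P' hz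
      have : z⁻¹ * m' = 1 := hinj _ (mul_mem (inv_mem hzP) hm')
        (by rw [map_mul, map_inv, hzm, inv_mul_cancel])
      rw [inv_mul_eq_one] at this
      rw [hZ, ← this]
      exact mem_map_of_mem _ hz
    · left
      refine le_antisymm hN ?_
      set N' := N.subgroupOf X with hN'
      have hNmap : N'.map X.subtype = N := map_subgroupOf_eq_of_le (hN.trans hPX)
      have htop : N'.map q ⊔ frattini (X ⧸ O) = ⊤ := by
        have h1 : N' ⊔ (frattini (X ⧸ O)).comap q = ⊤ := by
          refine map_injective X.subtype_injective ?_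
          rw [Subgroup.map_sup, hNmap, ← hphi, ← MonoidHom.range_eq_map, range_subtype]
          exact h
        rw [← map_comap_eq_self_of_surjective hqs (frattini (X ⧸ O)), ← Subgroup.map_sup, h1,
          map_top_of_surjective _ hqs]
      have hN'top := frattini_nongenerating htop
      rintro _ ⟨x, hx, rfl⟩
      obtain ⟨n, hn, hnx⟩ := (hN'top.symm ▸ mem_top (q x) : q x ∈ N'.map q)
      have hnP : n ∈ P' := by
        obtain ⟨m, hm, he⟩ := hN (mem_subgroupOf.1 hn)
        exact X.subtype_injective he ▸ hm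
      have : n⁻¹ * x = 1 := hinj _ (mul_mem (inv_mem hnP) hx)
        (by rw [map_mul, map_inv, hnx, inv_mul_cancel])
      rw [inv_mul_eq_one] at this
      exact this ▸ mem_subgroupOf.1 hn

end XiMember

end H62.XU
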