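import Cfsg.Agent.H62.Xi.Core
import Cfsg.Agent.H62.Xi.Structure
import Cfsg.Agent.H80.Rank2Solv
import Cfsg.Agent.H1.Cores

/-!
Transfer to the maximal 2-local subgroups over `XT`.
-/

set_option autoImplicit false

namespace H62.XU

open Subgroup
open scoped commutatorElement

variable {G : Type*} [Group G] [Finite G]

omit [Finite G] in
theorem IsPair.subgroupOf {p : ℕ} {P U : Subgroup G} (h : IsPair p P U) {M : Subgroup G}
    (hP : P ≤ M) (hU : U ≤ M) : IsPair p (P.subgroupOf M) (U.subgroupOf M) := by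
  have hc : ⁅P.subgroupOf M, P.subgroupOf M⁆.map M.subtype = ⁅P, P⁆ := by
    rw [map_commutator, map_subgroupOf_eq_of_le hP]
  refine ⟨fun x hx => Subtype.ext (by simpa using h.exp x (mem_subgroupOf.1 hx)), ?_, ?_, ?_⟩
  · exact le_normalizer_iff.2 fun u hu x hx => mem_subgroupOf.2
      (Cfsg.Comp.conj_mem_of_le_normalizer h.norm (mem_subgroupOf.1 hu) (mem_subgroupOf.1 hx))
  · rw [Cfsg.Comp.card_subgroupOf hP,
      ← card_map_of_injective (K := ⁅P.subgroupOf M, P.subgroupOf M⁆) M.subtype_injective, hc,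
      ← map_eq_bot_iff_of_injective ⁅P.subgroupOf M, P.subgroupOf M⁆ M.subtype_injective, hc]
    exact h.cases'
  · intro N hN h1 h2
    have hNP : N.map M.subtype ≤ P := by
      rintro _ ⟨n, hn, rfl⟩
      exact mem_subgroupOf.1 (hN hn)
    have h1' : P ≤ normalizer (N.map M.subtype : Set G) := by
      rw [← map_subgroupOf_eq_of_le hP]
      exact (map_mono h1).trans (le_normalizer_map _)
    have h2' : U ≤ normalizer (N.map M.subtype : Set G) := by
      rw [← map_subgroupOf_eq_of_le hU]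
      exact (map_mono h2).trans (le_normalizer_map _)
    rcases h.irr _ hNP h1' h2' with e | e
    · refine Or.inl (map_injective M.subtype_injective ?_)
      rw [e, map_subgroupOf_eq_of_le hP]
    · exact Or.inr ((map_le_map_iff_of_injective M.subtype_injective).1 (hc ▸ e))

/-- A perfect subnormal subgroup with a prescribed perfect image. -/
theorem exists_perfect_lift {K H : Type*} [Group K] [Finite K] [Group H] {f : K →* H}
    (hf : Function.Surjective f) {Lb : Subgroup H} (hL : Lb.IsSubnormal) (hperf : ⁅Lb, Lb⁆ = Lb) :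
    ∃ L : Subgroup K, L.IsSubnormal ∧ ⁅L, L⁆ = L ∧ L.map f = Lb := by
  obtain ⟨L, -, hLmin⟩ := (Set.toFinite {L : Subgroup K | L.IsSubnormal ∧ L.map f = Lb}).exists_le_minimal
    (a := Lb.comap f) ⟨hL.comap f, map_comap_eq_self_of_surjective hf Lb⟩
  obtain ⟨hLs, hLmap⟩ := hLmin.prop
  refine ⟨L, hLs, le_antisymm (Subgroup.commutator_le_self L) (hLmin.2 ⟨?_, ?_⟩ (Subgroup.commutator_le_self L)), hLmap⟩
  · have hn : (⁅L, L⁆.subgroupOf L).Normal :=
      normal_subgroupOf_of_le_normalizer (normalizer_commutator_ge_left L L)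
    exact Subgroup.IsSubnormal.trans (Subgroup.commutator_le_self L) hn.isSubnormal hLs
  · rw [map_commutator, hLmap, hperf]

/-- A component of `M/O₂(M)` containing the image of `X` in its orbit contradicts `Ξ*`. -/
theorem exclusion {T M X : Subgroup G} (T0 : Sylow 2 G) (hT0 : (T0 : Subgroup G) = T)
    (hTM : T ≤ M) (hXM : X ≤ M) (hM2 : Cfsg.pCore 2 M ≠ ⊥)
    (hex : ∀ L ∈ Cfsg.calL T, Cfsg.IsQuasisimple (↥L ⧸ Cfsg.pCore 2 ↥L) → ¬ (X ⊔ T ≤ L ⊔ T))
    (Lb : Subgroup (M ⧸ Cfsg.pCore 2 M)) (hLb : Cfsg.IsComponent Lb) :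
    ¬ (X.subgroupOf M).map (QuotientGroup.mk' (Cfsg.pCore 2 M)) ≤
      Cfsg.conjClosure Lb ((T.subgroupOf M).map (QuotientGroup.mk' (Cfsg.pCore 2 M))) := by
  intro hle
  have := Fact.mk Nat.prime_two
  set O := Cfsg.pCore 2 M with hO
  set π := QuotientGroup.mk' O with hπ
  have hπs : Function.Surjective π := QuotientGroup.mk'_surjective _
  set T' := T.subgroupOf M with hT'
  have hOT : O ≤ T' := by
    have hO2 : IsPGroup 2 O := Cfsg.Comp.pCore_isPGroup 2
    have hle' : (T0 : Subgroup G) ≤ M := hT0 ▸ hTM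
    have h := hO2.le_sylow_of_normal (T0.subtype hle')
    rwa [Sylow.coe_subtype, hT0] at h
  obtain ⟨L', hLs, hLp, hLmap⟩ := exists_perfect_lift hπs hLb.1 (Cfsg.Comp.isComponent_perfect hLb)
  set L := L'.map M.subtype with hL
  have hLM : L ≤ M := map_subtype_le _
  let φ : L' →* Lb := (MulEquiv.subgroupCongr hLmap).toMonoidHom.comp (π.subgroupMap L')
  have hφs : Function.Surjective φ :=
    (MulEquiv.subgroupCongr hLmap).surjective.comp (π.subgroupMap_surjective L')
  have hφk : ∀ x : L', φ x = 1 ↔ (x : M) ∈ O := fun x => by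
    constructor
    · intro h
      exact (QuotientGroup.eq_one_iff _).1 (congrArg Subtype.val h)
    · intro h
      exact Subtype.ext ((QuotientGroup.eq_one_iff _).2 h)
  -- `O₂(L)` is the kernel
  have hker : Cfsg.pCore 2 L' = φ.ker := by
    refine le_antisymm ?_ (Cfsg.Comp.le_pCore inferInstance fun x => ?_)
    · intro x hx
      exact (hφk x).2 (Cfsg.Comp.pCore_map_subtype_le 2 hLs ⟨x, hx, rfl⟩)
    · obtain ⟨k, hk⟩ := Cfsg.Comp.pCore_isPGroup 2 (G := M) ⟨_, (hφk x).1 x.2⟩
      exact ⟨k, Subtype.ext (Subtype.ext (by simpa using congrArg Subtype.val hk))⟩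
  have hquas' : Cfsg.IsQuasisimple (↥L' ⧸ Cfsg.pCore 2 ↥L') :=
    Cfsg.Comp.isQuasisimple_of_equiv ((QuotientGroup.quotientMulEquivOfEq hker).trans
      (QuotientGroup.quotientKerEquivOfSurjective φ hφs)).symm hLb.2
  let e : L' ≃* L := L'.equivMapOfInjective M.subtype M.subtype_injective
  have hquas : Cfsg.IsQuasisimple (↥L ⧸ Cfsg.pCore 2 ↥L) := by
    refine Cfsg.Comp.isQuasisimple_of_equiv
      (QuotientGroup.congr (Cfsg.pCore 2 L') (Cfsg.pCore 2 L) e ?_) hquas'
    refine le_antisymm (Cfsg.Comp.le_pCore ((Cfsg.pCore_normal 2 L').map _ e.surjective)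
      ((Cfsg.Comp.pCore_isPGroup 2).map _)) fun y hy => ?_
    refine ⟨e.symm y, ?_, e.apply_symm_apply y⟩
    exact Cfsg.Comp.le_pCore ((Cfsg.pCore_normal 2 L).map e.symm.toMonoidHom e.symm.surjective)
      ((Cfsg.Comp.pCore_isPGroup 2).map _) ⟨y, hy, rfl⟩
  set J := L ⊔ T with hJ
  have hJM : J ≤ M := sup_le hLM hTM
  have hperf : ⁅L, L⁆ = L := by rw [hL, ← map_commutator, hLp]
  have hLne : L ≠ ⊥ := by
    intro h
    refine Cfsg.Comp.isComponent_ne_bot hLb ?_
    rw [← hLmap, map_injective M.subtype_injective (h.trans (Subgroup.map_bot _).symm), Subgroup.map_bot]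
  have hLJ : L ≤ J := le_sup_left
  have hcalC : L.subgroupOf J ∈ Cfsg.calC ↥J := by
    refine ⟨fun h => hLne (eq_bot_iff.2 fun x hx => ?_), ?_, ?_, fun K hK hKp => ?_⟩
    · have : (⟨x, hLJ hx⟩ : J) ∈ L.subgroupOf J := hx
      rw [h, mem_bot] at this
      exact mem_bot.2 (congrArg Subtype.val this)
    · refine map_injective J.subtype_injective ?_
      rw [map_commutator, map_subgroupOf_eq_of_le hLJ, hperf]
    · have h1 : (L'.comap (inclusion hJM)).IsSubnormal := hLs.comap _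
      convert h1 using 1
      ext x
      rw [mem_subgroupOf, mem_comap, hL]
      constructor
      · rintro ⟨y, hy, hxy⟩
        exact (Subtype.ext hxy : y = inclusion hJM x) ▸ hy
      · exact fun h => ⟨_, h, rfl⟩
    · obtain ⟨hKne, hKperf, hKs⟩ := hKp
      -- pull `K` back into `L'`
      set ι : L' →* J := (inclusion hLJ).comp e.toMonoidHom with hι
      set K' := K.comap ι with hK'
      have hK'map : K'.map ι = K := by
        refine le_antisymm (map_comap_le _ _) fun x hx => ?_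
        obtain ⟨y, hy, hxy⟩ : (x : G) ∈ L := mem_subgroupOf.1 (hK.le hx)
        have hιy : ι ⟨y, hy⟩ = x := Subtype.ext hxy
        exact ⟨⟨y, hy⟩, show ι ⟨y, hy⟩ ∈ K from hιy.symm ▸ hx, hιy⟩
      have hιinj : Function.Injective ι := (inclusion_injective hLJ).comp e.injective
      have hK's : K'.IsSubnormal := hKs.comap ι
      have hK'p : ⁅K', K'⁆ = K' := by
        refine map_injective hιinj ?_
        rw [map_commutator, hK'map, hKperf]
      have hK'ne : K' ≠ ⊤ := by
        intro h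
        refine hK.ne ?_
        rw [← hK'map, h]
        refine le_antisymm ?_ fun x hx => ?_
        · rintro _ ⟨y, -, rfl⟩
          exact mem_subgroupOf.2 (e y).2
        · obtain ⟨y, hy, hxy⟩ : (x : G) ∈ L := mem_subgroupOf.1 hx
          exact ⟨⟨y, hy⟩, mem_top _, Subtype.ext hxy⟩
      obtain ⟨N, hN, hK'N, hNtop⟩ := hK's.lt_normal.resolve_left hK'ne
      rcases Cfsg.Comp.normal_eq_top_or_le_center hLb.2 (hN.map φ hφs) with h | h
      · -- `L'/N` would be a perfect 2-group
        have hNφ : N ⊔ φ.ker = ⊤ := by rw [← comap_map_eq, h, comap_top]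
        have hq : IsPGroup 2 (L' ⧸ N) := by
          have hk : IsPGroup 2 φ.ker := hker ▸ Cfsg.Comp.pCore_isPGroup 2
          refine hk.of_surjective ((QuotientGroup.mk' N).comp φ.ker.subtype) fun z => ?_
          obtain ⟨x, rfl⟩ := QuotientGroup.mk'_surjective N z
          obtain ⟨n, hn, y, hy, rfl⟩ := mem_sup_of_normal_left.1 (hNφ.symm ▸ mem_top x)
          refine ⟨⟨y, hy⟩, ?_⟩
          simp [(QuotientGroup.eq_one_iff n).2 hn]
        have hsol : Group.IsSolvable (L' ⧸ N) :=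
          have := hq.isNilpotent
          inferInstance
        have hperfq : commutator (L' ⧸ N) = ⊤ := by
          have hp' : commutator L' = ⊤ := (Subgroup.isPerfect_iff.2 hLp).commutator_eq_top
          rw [_root_.commutator_def, ← map_top_of_surjective _ (QuotientGroup.mk'_surjective N),
            ← map_commutator, ← _root_.commutator_def, hp']
        have : Nontrivial (L' ⧸ N) := QuotientGroup.nontrivial_iff.2 hNtop.ne
        exact absurd hperfq (Group.IsSolvable.commutator_lt_top_of_nontrivial (L' ⧸ N)).ne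
      · -- `K` would be a perfect 2-group
        have h1 : K'.map φ ≤ center Lb := (map_mono hK'N).trans h
        have h2 : K'.map φ = ⊥ := by
          rw [← hK'p, map_commutator, eq_bot_iff]
          exact (commutator_mono h1 h1).trans (le_of_eq (by rw [commutator_center_left]))
        have h3 : K' ≤ Cfsg.pCore 2 L' := hker ▸ (map_eq_bot_iff K').1 h2
        have hKp2 : IsPGroup 2 K := hK'map ▸ (((Cfsg.Comp.pCore_isPGroup 2).to_le h3).map ι)
        have := hKp2.isNilpotent
        have hsol : Group.IsSolvable K := inferInstance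
        have : Nontrivial K := (nontrivial_iff_ne_bot K).2 hKne
        exact (Group.IsSolvable.commutator_lt_top_of_nontrivial K).ne
          (Subgroup.isPerfect_iff.2 hKperf).commutator_eq_top
  have hmem : L ∈ Cfsg.calL T := by
    refine ⟨hcalC, ⟨T0.subtype (hT0 ▸ le_sup_right : (T0 : Subgroup G) ≤ L ⊔ T), ?_⟩, ?_⟩
    · rw [Sylow.coe_subtype, hT0]
    · intro h
      refine hM2 ?_
      set OG := O.map M.subtype with hOG
      have hOGJ : OG ≤ J := by
        rintro _ ⟨x, hx, rfl⟩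
        exact mem_sup_right (mem_subgroupOf.1 (hOT hx))
      have hn : (OG.subgroupOf J).Normal :=
        normal_subgroupOf_of_le_normalizer (hJM.trans
          (le_normalizer.trans (Cfsg.Comp.le_normalizer_map_subtype O)))
      have h1 : OG.subgroupOf J ≤ Cfsg.pCore 2 J := Cfsg.Comp.le_pCore hn
        (((Cfsg.Comp.pCore_isPGroup 2).map _).comap_subtype)
      rw [h, le_bot_iff, subgroupOf_eq_bot] at h1
      refine map_injective M.subtype_injective ((h1.eq_bot_of_le hOGJ).trans (Subgroup.map_bot _).symm)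
  refine hex L hmem hquas (sup_le ?_ le_sup_right)
  intro x hx
  have h1 : π ⟨x, hXM hx⟩ ∈ (L' ⊔ T').map π := by
    refine (hle.trans (iSup_le fun t => ?_)) (mem_map_of_mem π (show (⟨x, hXM hx⟩ : M) ∈ X.subgroupOf M from hx))
    obtain ⟨s, hs, hst⟩ := t.2
    rintro _ ⟨y, hy, rfl⟩
    rw [← hLmap] at hy
    obtain ⟨l, hl, rfl⟩ := hy
    refine ⟨s * l * s⁻¹, mul_mem (mul_mem (mem_sup_right hs) (mem_sup_left hl))
      (inv_mem (mem_sup_right hs)), ?_⟩
    simp [← hst]
  have h2 : (⟨x, hXM hx⟩ : M) ∈ L' ⊔ T' := by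
    have := mem_comap.2 h1
    rw [comap_map_eq, hπ, QuotientGroup.ker_mk', sup_assoc, sup_eq_left.2 hOT] at this
    exact this
  have h3 := mem_map_of_mem M.subtype h2
  rw [Subgroup.map_sup, map_subgroupOf_eq_of_le hTM] at h3
  exact h3

/-- `X` is normal in every maximal 2-local over `XT`. -/
theorem le_normalizer_of_twoLocal (hQT : Cfsg.IsQuasithin G) {T X M : Subgroup G}
    (T0 : Sylow 2 G) (hT0 : (T0 : Subgroup G) = T) (hX : X ∈ Cfsg.XiStar T)
    (hM : Cfsg.IsTwoLocal M) (hM2 : Cfsg.pCore 2 M ≠ ⊥) (hle : X ⊔ T ≤ M) :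
    M ≤ normalizer (X : Set G) := by
  have := Fact.mk Nat.prime_two
  obtain ⟨p, P, U, hp, hp2, hpair, hPX, hgen, hUXT⟩ := exists_pair hX.1
  have := Fact.mk hp
  have hXM : X ≤ M := le_sup_left.trans hle
  have hTM : T ≤ M := le_sup_right.trans hle
  have hUM : U ≤ M := hUXT.trans hle
  have hPM : P ≤ M := hPX.trans hXM
  set O := Cfsg.pCore 2 M with hO
  set π := QuotientGroup.mk' O with hπ
  have hO2 : IsPGroup 2 O := Cfsg.Comp.pCore_isPGroup 2
  set X' := X.subgroupOf M with hX'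
  have hinj : ∀ x ∈ P.subgroupOf M, π x = 1 → x = 1 := by
    intro x hx h1
    obtain ⟨k, hk⟩ := hO2 ⟨x, (QuotientGroup.eq_one_iff x).1 h1⟩
    exact mem_bot.1 (mem_of_pow_mem_coprime (C := (⊥ : Subgroup M)) (m := 2 ^ k) (n := p)
      (mem_bot.2 (by simpa using congrArg Subtype.val hk))
      (Subtype.ext (by simpa using hpair.exp x (mem_subgroupOf.1 hx)))
      (Nat.Coprime.pow_left _ ((Nat.coprime_primes Nat.prime_two hp).2 (Ne.symm hp2))))
  have hrk : ∀ r : ℕ, r.Prime → r ≠ 2 → Cfsg.PRankLE r 2 (M ⧸ O) := fun r hr hr2 => by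
    have := Fact.mk hr
    refine H80.pRankLE_quotient_coprime O (fun hd => ?_) (hQT r hr hr2 M hM)
    obtain ⟨k, hk⟩ := hO2.exists_card_eq
    exact hr2 ((Nat.prime_dvd_prime_iff_eq hr Nat.prime_two).1 (hr.dvd_of_dvd_pow (hk ▸ hd)))
  have hctx : Ctx p ((P.subgroupOf M).map π) ((U.subgroupOf M).map π) (X'.map π)
      ((T.subgroupOf M).map π) := by
    refine ⟨H1.pCore_quotient_pCore 2 M, hrk, hp2, (hpair.subgroupOf hPM hUM).map π hinj,
      map_mono (subgroupOf_mono M hPX), ?_, ?_, ?_,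
      fun L hL => exclusion T0 hT0 hTM hXM hM2 hX.2 L hL⟩
    · intro N hPN hN
      set N0 := (N.comap π).map M.subtype with hN0
      have h1 : P ≤ N0 := fun x hx =>
        ⟨⟨x, hPM hx⟩, hPN ⟨_, (show (⟨x, hPM hx⟩ : M) ∈ P.subgroupOf M from hx), rfl⟩, rfl⟩
      have h2 : X ≤ normalizer (N0 : Set G) := le_normalizer_iff.2 fun x hx y hy => by
        obtain ⟨n, hn, rfl⟩ := hy
        refine ⟨⟨x, hXM hx⟩ * n * ⟨x, hXM hx⟩⁻¹, ?_, rfl⟩
        show π _ ∈ N
        rw [map_mul, map_mul, map_inv]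
        exact Cfsg.Comp.conj_mem_of_le_normalizer hN
          ⟨_, (show (⟨x, hXM hx⟩ : M) ∈ X' from hx), rfl⟩ hn
      rintro _ ⟨x, hx, rfl⟩
      obtain ⟨n, hn, hnx⟩ := hgen N0 h1 h2 (mem_subgroupOf.1 hx)
      exact M.subtype_injective hnx ▸ hn
    · rw [← Subgroup.map_sup, hX', ← subgroupOf_sup hXM hTM]
      exact map_mono (subgroupOf_mono M hUXT)
    · refine (map_mono ?_).trans (le_normalizer_map π)
      exact le_normalizer_iff.2 fun t ht x hx => mem_subgroupOf.2
        (Cfsg.Comp.conj_mem_of_le_normalizer hX.1.2.1 (mem_subgroupOf.1 ht) (mem_subgroupOf.1 hx))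
  have hn := hctx.X_normal
  -- the preimage `X · O₂(M)` is normal, and `X` is generated by its elements of odd order
  have hn2 : ((X'.map π).comap π).Normal := hn.comap π
  have hOT : O ≤ T.subgroupOf M := by
    have hle' : (T0 : Subgroup G) ≤ M := hT0 ▸ hTM
    have h := hO2.le_sylow_of_normal (T0.subtype hle')
    rwa [Sylow.coe_subtype, hT0] at h
  have hsup : (X'.map π).comap π = X' ⊔ O := by rw [comap_map_eq, hπ, QuotientGroup.ker_mk']
  have hTX' : O ≤ normalizer (X' : Set M) := hOT.trans (le_normalizer_iff.2 fun t ht x hx =>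
    mem_subgroupOf.2 (Cfsg.Comp.conj_mem_of_le_normalizer hX.1.2.1 (mem_subgroupOf.1 ht) (mem_subgroupOf.1 hx)))
  have hodd : ∀ y ∈ X' ⊔ O, Odd (orderOf y) → y ∈ X' := by
    intro y hy hyo
    obtain ⟨o, ho, x, hx, rfl⟩ := mem_sup_of_le_normalizer hTX' (sup_comm X' O ▸ hy)
    obtain ⟨k, hk⟩ := hO2 ⟨o, ho⟩
    -- work modulo `X'` inside its normaliser
    set N := normalizer (X' : Set M) with hNdef
    have hX'n : (X'.subgroupOf N).Normal := normal_subgroupOf_of_le_normalizer le_rfl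
    let y' : N := ⟨o * x, mul_mem (hTX' ho) (le_normalizer hx)⟩
    let o' : N := ⟨o, hTX' ho⟩
    have h1 : QuotientGroup.mk' (X'.subgroupOf N) y' = QuotientGroup.mk' (X'.subgroupOf N) o' := by
      refine QuotientGroup.eq.2 (mem_subgroupOf.2 ?_)
      have e : ((y'⁻¹ * o' : N) : M) = x⁻¹ := by simp [y', o']
      rw [e]
      exact inv_mem hx
    have hok : o ^ 2 ^ k = 1 := by simpa using congrArg Subtype.val hk
    have ho' : o' ^ 2 ^ k = 1 := Subtype.ext (by simpa [o'] using hok)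
    have h2 : y' ^ 2 ^ k ∈ X'.subgroupOf N := by
      rw [← QuotientGroup.eq_one_iff, ← QuotientGroup.mk'_apply, map_pow, h1, ← map_pow, ho', map_one]
    exact mem_of_pow_mem_coprime (m := 2 ^ k) (by simpa [y'] using mem_subgroupOf.1 h2)
      (pow_orderOf_eq_one _) (Nat.Coprime.pow_left _ (Nat.coprime_two_left.2 hyo))
  intro g hg
  have hsub : X ≤ (X.map (MulAut.conj g).toMonoidHom) → g ∈ normalizer (X : Set G) := fun h =>
    Cfsg.Comp.mem_normalizer_of_map_conj_eq (eq_of_le_of_card_ge h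
      (card_map_of_injective (MulAut.conj g).injective).le).symm
  refine hsub (hX.1.1.ge.trans ((closure_le _).2 ?_))
  rintro x ⟨hx, hxo⟩
  refine ⟨g⁻¹ * x * g, ?_, by simp [mul_assoc]⟩
  have hmem : (⟨g, hg⟩⁻¹ * ⟨x, hXM hx⟩ * ⟨g, hg⟩ : M) ∈ X' ⊔ O := by
    have hxm : (⟨x, hXM hx⟩ : M) ∈ (X'.map π).comap π :=
      hsup.symm ▸ mem_sup_left (show (⟨x, hXM hx⟩ : M) ∈ X' from hx)
    rw [← hsup]
    simpa using hn2.conj_mem _ hxm ⟨g, hg⟩⁻¹
  refine mem_subgroupOf.1 (hodd _ hmem ?_)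
  have e : orderOf (⟨g, hg⟩⁻¹ * ⟨x, hXM hx⟩ * ⟨g, hg⟩ : M) = orderOf x := by
    rw [← Subgroup.orderOf_coe]
    show orderOf (g⁻¹ * x * g) = orderOf x
    have h := orderOf_injective (MulAut.conj g⁻¹).toMonoidHom (MulAut.conj g⁻¹).injective x
    simpa using h
  rw [e]
  exact hxo

/-- `N(X)` is the unique maximal 2-local subgroup over `XT`. -/
theorem uniqueness (hQ : Cfsg.IsQTKE G) (T0 : Sylow 2 G) {X : Subgroup G}
    (hX : X ∈ Cfsg.XiStar (T0 : Subgroup G)) :
    Cfsg.maxTwoLocalsContaining (X ⊔ (T0 : Subgroup G)) = {normalizer (X : Set G)} := by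
  have := Fact.mk Nat.prime_two
  obtain ⟨hgen, -, hXT2, ⟨p, hp, hp2, hcase⟩, -⟩ := hX.1
  have hexists : ∀ N : Subgroup G, Cfsg.IsTwoLocal N →
      ∃ M, Cfsg.IsMaximalTwoLocal M ∧ N ≤ M := fun N hN => by
    obtain ⟨M, hNM, hMmax⟩ := (Set.toFinite {M : Subgroup G | Cfsg.IsTwoLocal M}).exists_le_maximal hN
    exact ⟨M, ⟨hMmax.prop, fun N' h1 h2 => (hMmax.eq_of_le h1 h2).symm⟩, hNM⟩
  have key : ∀ M, Cfsg.IsMaximalTwoLocal M → X ⊔ (T0 : Subgroup G) ≤ M →
      M = normalizer (X : Set G) := by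
    intro M hM hle
    have hchar : Subgroup.centralizer (Cfsg.pCore 2 M : Set M) ≤ Cfsg.pCore 2 M :=
      hQ.2.2 M hM.1 ⟨T0, le_sup_right.trans hle⟩
    have hM2 : Cfsg.pCore 2 M ≠ ⊥ := by
      intro h
      obtain ⟨T1, -, hT1, rfl⟩ := hM.1
      refine hT1 (eq_bot_iff.2 fun x hx => ?_)
      have : (⟨x, le_normalizer hx⟩ : normalizer (T1 : Set G)) ∈ (⊥ : Subgroup _) :=
        h ▸ hchar (by rw [h]; exact mem_centralizer_iff.2 fun y hy => by rw [mem_bot.1 hy]; simp)
      exact mem_bot.2 (congrArg Subtype.val (mem_bot.1 this))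
    have hN := le_normalizer_of_twoLocal hQ.1 T0 rfl hX hM.1 hM2 hle
    have hXM : X ≤ M := le_sup_left.trans hle
    set OX := (Cfsg.pCore 2 X).map X.subtype with hOX
    have hOX1 : OX ≠ ⊥ := by
      intro h
      have h0 : Cfsg.pCore 2 X = ⊥ :=
        map_injective X.subtype_injective (h.trans (Subgroup.map_bot _).symm)
      have hXn : (X.subgroupOf M).Normal := normal_subgroupOf_of_le_normalizer hN
      have hi : X.subgroupOf M ⊓ Cfsg.pCore 2 M = ⊥ := by
        rw [eq_bot_iff]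
        intro y hy
        have h1 : (⟨(y : G), (mem_subgroupOf.1 hy.1)⟩ : X) ∈ Cfsg.pCore 2 X := by
          let f : X →* M := inclusion hXM
          refine Cfsg.Comp.le_pCore (N := (Cfsg.pCore 2 M).comap f) inferInstance
            ((Cfsg.Comp.pCore_isPGroup 2).comap_of_injective f (inclusion_injective hXM)) ?_
          exact hy.2
        rw [h0, mem_bot] at h1
        exact mem_bot.2 (Subtype.ext (congrArg Subtype.val h1 : (y : G) = 1))
      have hc : X.subgroupOf M ≤ centralizer (Cfsg.pCore 2 M : Set M) :=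
        commutator_eq_bot_iff_le_centralizer.1
          (commutator_eq_bot_of_disjoint (disjoint_iff.2 hi))
      have h2 : X.subgroupOf M = ⊥ := by
        rw [← hi, inf_eq_left.2 (hc.trans hchar)]
      rw [subgroupOf_eq_bot] at h2
      have hXbot : X = ⊥ := h2.eq_bot_of_le hXM
      obtain ⟨a, ha, ha2⟩ := natCard_quotient_dvd hcase
      have hd : Nat.card (X ⧸ Cfsg.pCore 2 X) ∣ Nat.card X := card_quotient_dvd_card _
      rw [ha, Subgroup.card_eq_one.2 hXbot, Nat.dvd_one] at hd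
      exact absurd hd (Nat.one_lt_pow (by omega) hp.one_lt).ne'
    have hloc : Cfsg.IsTwoLocal (normalizer (OX : Set G)) :=
      ⟨OX, (Cfsg.Comp.pCore_isPGroup 2).map _, hOX1, rfl⟩
    have hNO : normalizer (X : Set G) ≤ normalizer (OX : Set G) :=
      Cfsg.Comp.le_normalizer_map_subtype _
    exact le_antisymm hN (hNO.trans (hM.2 _ hloc (hN.trans hNO)).le)
  -- existence
  set J := X ⊔ (T0 : Subgroup G) with hJ
  set OJ := (Cfsg.pCore 2 J).map J.subtype with hOJ
  have hloc : Cfsg.IsTwoLocal (normalizer (OJ : Set G)) :=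
    ⟨OJ, (Cfsg.Comp.pCore_isPGroup 2).map _,
      fun h => hXT2 (map_injective J.subtype_injective (h.trans (Subgroup.map_bot _).symm)), rfl⟩
  obtain ⟨M, hM, hle⟩ := hexists _ hloc
  have hJM : J ≤ M := (le_normalizer.trans (Cfsg.Comp.le_normalizer_map_subtype _)).trans hle
  refine Set.eq_singleton_iff_unique_mem.2 ⟨?_, fun N hN => key N hN.1 hN.2⟩
  exact key M hM hJM ▸ ⟨hM, hJM⟩

end H62.XU
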