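import Cfsg.Prelude.Def_Quasithin
import Cfsg.Agent.CompBasic
import Cfsg.Agent.H9.PGroup
import Cfsg.Agent.H83.NormalSquare

/-!
Small tools for the solvable uniqueness groups: rank arguments and irreducible pairs `(P, U)`.
-/

set_option autoImplicit false

namespace H62.XU

open Subgroup

variable {H : Type*} [Group H] [Finite H] {p : ℕ} [Fact p.Prime]

theorem lt_mul_card {A B : Subgroup H} (hB : IsPGroup p B) (h : A < B) :
    p * Nat.card A ≤ Nat.card B := by
  obtain ⟨i, hi⟩ := (hB.to_le h.le).exists_card_eq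
  obtain ⟨j, hj⟩ := hB.exists_card_eq
  have hlt : Nat.card A < Nat.card B :=
    lt_of_le_of_ne (card_le_of_le h.le) fun e => h.ne (eq_of_le_of_card_ge h.le e.ge)
  rw [hi, hj] at hlt ⊢
  rw [← pow_succ']
  exact Nat.pow_le_pow_right (Fact.out : p.Prime).pos
    ((Nat.pow_lt_pow_iff_right (Fact.out : p.Prime).one_lt).1 hlt)

omit [Finite H] [Fact p.Prime] in
theorem isPGroup_of_exp {A : Subgroup H} (h : ∀ a ∈ A, a ^ p = 1) : IsPGroup p A :=
  fun a => ⟨1, Subtype.ext (by simpa using h a a.2)⟩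

omit [Fact p.Prime] [Finite H] in
theorem elemAb_comm {A : Subgroup H} (hA : Cfsg.IsElementaryAbelian p A) {a b : H} (ha : a ∈ A)
    (hb : b ∈ A) : a * b = b * a :=
  Cfsg.Agent.H9.comm_of hA.1 a ha b hb

theorem elemAb_insert {A : Subgroup H} (hA : Cfsg.IsElementaryAbelian p A) {x : H}
    (hx : x ^ p = 1) (hxA : x ∉ A) (hc : ∀ a ∈ A, x * a = a * x) :
    Cfsg.IsElementaryAbelian p (A ⊔ zpowers x) ∧
      p * Nat.card A ≤ Nat.card ↥(A ⊔ zpowers x) := by
  have h : Cfsg.IsElementaryAbelian p (A ⊔ zpowers x) := by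
    refine Cfsg.Agent.H9.elemAb_sup hA (Cfsg.Agent.H9.elemAb_zpowers hx) fun a ha b hb => ?_
    obtain ⟨i, rfl⟩ := mem_zpowers_iff.1 hb
    exact ((show Commute x a from hc a ha).zpow_left i).eq.symm
  refine ⟨h, lt_mul_card (isPGroup_of_exp h.2) (lt_of_le_of_ne le_sup_left fun e => hxA ?_)⟩
  exact e ▸ mem_sup_right (mem_zpowers x)

/-- In a group of rank at most two an element of order `p` centralising an elementary abelian
subgroup of order `p²` lies in it. -/
theorem mem_of_rank (hr : Cfsg.PRankLE p 2 H) {A : Subgroup H}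
    (hA : Cfsg.IsElementaryAbelian p A) (hc : Nat.card A = p ^ 2) {x : H} (hx : x ^ p = 1)
    (h : ∀ a ∈ A, x * a = a * x) : x ∈ A := by
  by_contra hxA
  obtain ⟨h1, h2⟩ := elemAb_insert hA hx hxA h
  have h3 := hr _ h1.1 h1.2
  rw [hc] at h2
  have : p * p ^ 2 ≤ p ^ 2 := h2.trans h3
  nlinarith [(Fact.out : p.Prime).two_le, pow_pos (Fact.out : p.Prime).pos 2]

/-- Three independent commuting elements of order `p` contradict rank two. -/
theorem false_of_three (hr : Cfsg.PRankLE p 2 H) {a b c : H} (ha : a ^ p = 1) (hb : b ^ p = 1)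
    (hc : c ^ p = 1) (hab : a * b = b * a) (hac : a * c = c * a) (hbc : b * c = c * b)
    (hc1 : c ≠ 1) (hb' : b ∉ zpowers c) (ha' : a ∉ zpowers c ⊔ zpowers b) : False := by
  have h0 : Cfsg.IsElementaryAbelian p (zpowers c) := Cfsg.Agent.H9.elemAb_zpowers hc
  have hcard : Nat.card (zpowers c) = p := by rw [Nat.card_zpowers, orderOf_eq_prime hc hc1]
  obtain ⟨h1, h1'⟩ := elemAb_insert h0 hb hb' (by
    intro y hy
    obtain ⟨i, rfl⟩ := mem_zpowers_iff.1 hy
    exact ((show Commute b c from hbc).zpow_right i).eq)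
  obtain ⟨h2, h2'⟩ := elemAb_insert h1 ha ha' (by
    intro y hy
    exact (mem_centralizer_singleton_iff.1 ((sup_le (zpowers_le.2 (mem_centralizer_singleton_iff.2 hac.symm))
      (zpowers_le.2 (mem_centralizer_singleton_iff.2 hab.symm)) :
        zpowers c ⊔ zpowers b ≤ centralizer {a}) hy)).symm)
  have h3 := hr _ h2.1 h2.2
  rw [hcard] at h1'
  have hp := (Fact.out : p.Prime).two_le
  have h4 : p * (p * p) ≤ p ^ 2 := ((Nat.mul_le_mul_left p h1').trans h2').trans h3
  nlinarith [Nat.mul_pos (show 0 < p by omega) (show 0 < p by omega)]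

omit [Finite H] [Fact p.Prime] in
variable (p) in
/-- `P` has exponent `p` and order `p²` (abelian) or `p³` (derived group of order `p`), and `U`
normalises `P` irreducibly modulo the derived group. -/
structure IsPair (P U : Subgroup H) : Prop where
  exp : ∀ x ∈ P, x ^ p = 1
  norm : U ≤ normalizer (P : Set H)
  cases' : (Nat.card P = p ^ 2 ∧ ⁅P, P⁆ = ⊥) ∨ (Nat.card P = p ^ 3 ∧ Nat.card ↥⁅P, P⁆ = p)
  irr : ∀ N : Subgroup H, N ≤ P → P ≤ normalizer (N : Set H) → U ≤ normalizer (N : Set H) →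
    N = P ∨ N ≤ ⁅P, P⁆

variable {P U : Subgroup H}

omit [Finite H] [Fact p.Prime] in
theorem IsPair.pgroup (h : IsPair p P U) : IsPGroup p P := isPGroup_of_exp h.exp

omit [Finite H] [Fact p.Prime] in
theorem IsPair.card_eq (h : IsPair p P U) : Nat.card P = p ^ 2 * Nat.card ↥⁅P, P⁆ := by
  rcases h.cases' with ⟨h1, h2⟩ | ⟨h1, h2⟩
  · rw [h1, h2, card_bot, mul_one]
  · rw [h1, h2, pow_succ]

omit [Finite H] [Fact p.Prime] in
theorem IsPair.commutator_le (_h : IsPair p P U) : ⁅P, P⁆ ≤ P := Subgroup.commutator_le_self P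

theorem IsPair.commutator_central (h : IsPair p P U) :
    ∀ z ∈ ⁅P, P⁆, ∀ x ∈ P, z * x = x * z := by
  intro z hz x hx
  rcases h.cases' with ⟨_, h2⟩ | ⟨_, h2⟩
  · rw [h2, mem_bot] at hz
    simp [hz]
  · have hne : ⁅P, P⁆ ≠ ⊥ := fun e => by
      rw [e, card_bot] at h2
      exact (Fact.out : p.Prime).one_lt.ne h2
    obtain ⟨w, hw, hw1, hwp, hwc⟩ := H83.exists_central_order_p_mem h.pgroup h.commutator_le
      (normalizer_commutator_ge_left P P) hne
    have hgen : zpowers w = ⁅P, P⁆ := eq_of_le_of_card_ge (zpowers_le.2 hw) (by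
      rw [h2, Nat.card_zpowers, orderOf_eq_prime hwp hw1])
    obtain ⟨i, rfl⟩ := mem_zpowers_iff.1 (hgen.symm ▸ hz : z ∈ zpowers w)
    exact ((show Commute w x from (hwc x hx).symm).zpow_left i).eq

theorem IsPair.elemAb_commutator (h : IsPair p P U) : Cfsg.IsElementaryAbelian p ⁅P, P⁆ :=
  ⟨Cfsg.Agent.H9.isMulCommutative_of fun a ha b hb =>
      h.commutator_central a ha b (h.commutator_le hb),
    fun a ha => h.exp a (h.commutator_le ha)⟩

theorem IsPair.notLE (h : IsPair p P U) : ¬ P ≤ ⁅P, P⁆ := by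
  intro hle
  have h1 := card_le_of_le hle
  rw [h.card_eq] at h1
  have hpos : 0 < Nat.card ↥⁅P, P⁆ := Nat.card_pos
  exact absurd h1 (not_le.2 (lt_mul_left hpos (Nat.one_lt_pow two_ne_zero (Fact.out : p.Prime).one_lt)))

omit [Finite H] [Fact p.Prime] in
/-- An invariant normal subgroup with an element outside the derived group is everything. -/
theorem IsPair.eq_top' (h : IsPair p P U) {N : Subgroup H} (hN : N ≤ P)
    (h1 : P ≤ normalizer (N : Set H)) (h2 : U ≤ normalizer (N : Set H)) {x : H} (hx : x ∈ N)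
    (hxZ : x ∉ ⁅P, P⁆) : N = P :=
  (h.irr N hN h1 h2).resolve_right fun h3 => hxZ (h3 hx)

omit [Finite H] [Fact p.Prime] in
/-- In the non-abelian case the centre of `P` is the derived group. -/
theorem IsPair.mem_of_central (h : IsPair p P U) (hne : ⁅P, P⁆ ≠ ⊥) {x : H} (hx : x ∈ P)
    (hc : ∀ y ∈ P, x * y = y * x) : x ∈ ⁅P, P⁆ := by
  set N := P ⊓ centralizer (P : Set H) with hN
  have h1 : P ≤ normalizer (N : Set H) := Cfsg.Comp.inf_le_normalizer le_normalizer
    (Cfsg.Comp.le_normalizer_centralizer le_normalizer)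
  have h2 : U ≤ normalizer (N : Set H) := Cfsg.Comp.inf_le_normalizer h.norm
    (Cfsg.Comp.le_normalizer_centralizer h.norm)
  rcases h.irr N inf_le_left h1 h2 with h3 | h3
  · exact absurd (commutator_eq_bot_iff_le_centralizer.2 (inf_eq_left.1 h3)) hne
  · exact h3 ⟨hx, mem_centralizer_iff.2 fun y hy => (hc y hy).symm⟩

/-- Elements `x` outside the derived group lie in elementary subgroups of order `p²` containing
it. -/
theorem IsPair.exists_elemAb (h : IsPair p P U) {x : H} (hx : x ∈ P) (hxZ : x ∉ ⁅P, P⁆) :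
    ∃ A, A ≤ P ∧ x ∈ A ∧ ⁅P, P⁆ ≤ A ∧ Cfsg.IsElementaryAbelian p A ∧ Nat.card A = p ^ 2 := by
  rcases h.cases' with ⟨h1, h2⟩ | ⟨h1, h2⟩
  · exact ⟨P, le_rfl, hx, h.commutator_le, ⟨commutator_self_eq_bot_iff.1 h2, h.exp⟩, h1⟩
  · have hle : ⁅P, P⁆ ⊔ zpowers x ≤ P := sup_le h.commutator_le (zpowers_le.2 hx)
    obtain ⟨hA, hc⟩ := elemAb_insert h.elemAb_commutator (h.exp x hx) hxZ
      fun a ha => (h.commutator_central a ha x hx).symm
    refine ⟨_, hle, mem_sup_right (mem_zpowers x), le_sup_left, hA, ?_⟩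
    rw [h2, ← pow_two] at hc
    refine le_antisymm ?_ hc
    have hne : ⁅P, P⁆ ⊔ zpowers x ≠ P := fun e => by
      have : Nat.card ↥⁅P, P⁆ = 1 := by
        rw [show ⁅P, P⁆ = ⊥ from commutator_self_eq_bot_iff.2 (e ▸ hA.1)]
        exact card_bot
      exact (Fact.out : p.Prime).one_lt.ne (this.symm.trans h2)
    have := lt_mul_card h.pgroup (lt_of_le_of_ne hle hne)
    rw [h1, pow_succ' p 2] at this
    exact Nat.le_of_mul_le_mul_left this (Fact.out : p.Prime).pos

/-- `P` is generated by two elements modulo its derived group. -/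
theorem IsPair.exists_two (h : IsPair p P U) :
    ∃ x₁ ∈ P, ∃ x₂ ∈ P, x₁ ∉ ⁅P, P⁆ ∧ x₂ ∉ ⁅P, P⁆ ⊔ zpowers x₁ ∧
      ⁅P, P⁆ ⊔ zpowers x₁ ⊔ zpowers x₂ = P := by
  obtain ⟨x₁, h1, h1'⟩ := SetLike.not_le_iff_exists.1 h.notLE
  have hle1 : ⁅P, P⁆ ⊔ zpowers x₁ ≤ P := sup_le h.commutator_le (zpowers_le.2 h1)
  have hne : ⁅P, P⁆ ⊔ zpowers x₁ ≠ P := by
    intro e
    rcases h.cases' with ⟨k1, k2⟩ | ⟨k1, k2⟩
    · rw [k2, bot_sup_eq] at e
      have := congrArg (fun K : Subgroup H => Nat.card K) e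
      simp only [Nat.card_zpowers, k1] at this
      have hle := Nat.le_of_dvd (Fact.out : p.Prime).pos (orderOf_dvd_of_pow_eq_one (h.exp x₁ h1))
      nlinarith [(Fact.out : p.Prime).two_le]
    · have hA := (elemAb_insert h.elemAb_commutator (h.exp x₁ h1) h1'
        fun a ha => (h.commutator_central a ha x₁ h1).symm).1
      rw [e] at hA
      have : Nat.card ↥⁅P, P⁆ = 1 := by
        rw [show ⁅P, P⁆ = ⊥ from commutator_self_eq_bot_iff.2 hA.1]
        exact card_bot
      exact (Fact.out : p.Prime).one_lt.ne (this.symm.trans k2)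
  obtain ⟨x₂, h2, h2'⟩ := SetLike.exists_of_lt (lt_of_le_of_ne hle1 hne)
  refine ⟨x₁, h1, x₂, h2, h1', h2', eq_of_le_of_card_ge (sup_le hle1 (zpowers_le.2 h2)) ?_⟩
  have a1 : p * Nat.card ↥⁅P, P⁆ ≤ Nat.card ↥(⁅P, P⁆ ⊔ zpowers x₁) :=
    lt_mul_card (h.pgroup.to_le hle1)
      (lt_of_le_of_ne le_sup_left fun e => h1' (e ▸ mem_sup_right (mem_zpowers x₁)))
  have a2 : p * Nat.card ↥(⁅P, P⁆ ⊔ zpowers x₁) ≤
      Nat.card ↥(⁅P, P⁆ ⊔ zpowers x₁ ⊔ zpowers x₂) :=
    lt_mul_card (h.pgroup.to_le (sup_le hle1 (zpowers_le.2 h2)))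
      (lt_of_le_of_ne le_sup_left fun e => h2' (e ▸ mem_sup_right (mem_zpowers x₂)))
  rw [h.card_eq, pow_two, mul_assoc]
  exact (Nat.mul_le_mul_left p a1).trans a2

/-- An element of order `p` centralising `P` in a group of rank two is in `P`. -/
theorem IsPair.mem_of_centralizes (h : IsPair p P U) (hr : Cfsg.PRankLE p 2 H) {y : H}
    (hy : y ^ p = 1) (hc : ∀ x ∈ P, y * x = x * y) : y ∈ P := by
  obtain ⟨x, hx, hxZ⟩ := SetLike.not_le_iff_exists.1 h.notLE
  obtain ⟨A, hAP, -, -, hA, hcard⟩ := h.exists_elemAb hx hxZ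
  exact hAP (mem_of_rank hr hA hcard hy fun a ha => hc a (hAP ha))

omit [Finite H] [Fact p.Prime] in
/-- Replacing `U` by a subgroup inducing the same automorphisms modulo `C(P)`. -/
theorem IsPair.change (h : IsPair p P U) {V : Subgroup H} (hV : V ≤ normalizer (P : Set H))
    (hUV : ∀ u ∈ U, ∃ v ∈ V, v * u⁻¹ ∈ centralizer (P : Set H)) : IsPair p P V := by
  refine ⟨h.exp, hV, h.cases', fun N hN h1 h2 => h.irr N hN h1 fun u hu => ?_⟩
  obtain ⟨v, hv, hc⟩ := hUV u hu
  have hcN : v * u⁻¹ ∈ normalizer (N : Set H) :=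
    centralizer_le_normalizer _ (centralizer_le (show (N : Set H) ⊆ P from hN) hc)
  have : (v * u⁻¹)⁻¹ * v ∈ normalizer (N : Set H) := mul_mem (inv_mem hcN) (h2 hv)
  simpa using this

omit [Finite H] [Fact p.Prime] in
/-- Image of a pair. -/
theorem IsPair.map {H' : Type*} [Group H'] (h : IsPair p P U) (f : H →* H')
    (hf : ∀ x ∈ P, f x = 1 → x = 1) : IsPair p (P.map f) (U.map f) := by
  have hinj : ∀ K ≤ P, Nat.card (K.map f) = Nat.card K := fun K hK => by
    let g : K →* K.map f := f.subgroupMap K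
    exact (Nat.card_congr (Equiv.ofBijective g ⟨(injective_iff_map_eq_one g).2 fun x hx =>
      Subtype.ext (hf x (hK x.2) (congrArg Subtype.val hx)), f.subgroupMap_surjective K⟩)).symm
  refine ⟨?_, (map_mono h.norm).trans (le_normalizer_map f), ?_, ?_⟩
  · rintro _ ⟨x, hx, rfl⟩
    rw [← map_pow, h.exp x hx, map_one]
  · rw [← map_commutator, hinj P le_rfl, hinj _ h.commutator_le, map_eq_bot_iff_of_le hf]
    exact h.cases'
  · intro N hN h1 h2
    set N' := P ⊓ N.comap f with hN'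
    have e : N'.map f = N := by
      refine le_antisymm (map_le_iff_le_comap.2 inf_le_right) fun y hy => ?_
      obtain ⟨x, hx, rfl⟩ := hN hy
      exact ⟨x, ⟨hx, hy⟩, rfl⟩
    have hn : ∀ V : Subgroup H, V ≤ normalizer (P : Set H) → V.map f ≤ normalizer (N : Set H') →
        V ≤ normalizer (N' : Set H) := fun V hVP hVN =>
      le_normalizer_iff.2 fun v hv x hx => ⟨Cfsg.Comp.conj_mem_of_le_normalizer hVP hv hx.1, by
        show f (v * x * v⁻¹) ∈ N
        rw [map_mul, map_mul, map_inv]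
        exact Cfsg.Comp.conj_mem_of_le_normalizer hVN (mem_map_of_mem f hv) hx.2⟩
    rcases h.irr N' inf_le_left (hn P le_normalizer h1) (hn U h.norm h2) with h3 | h3
    · exact Or.inl (by rw [← e, h3])
    · exact Or.inr (by rw [← e, ← map_commutator]; exact map_mono h3)
where
  map_eq_bot_iff_of_le {G G' : Type _} [Group G] [Group G'] {P : Subgroup G} {f : G →* G'}
      (hf : ∀ x ∈ P, f x = 1 → x = 1) : (⁅P, P⁆.map f = ⊥) ↔ ⁅P, P⁆ = ⊥ := by
    refine ⟨fun h => ?_, fun h => by rw [h, Subgroup.map_bot]⟩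
    rw [eq_bot_iff]
    intro x hx
    exact mem_bot.2 (hf x (Subgroup.commutator_le_self P hx)
      (mem_bot.1 (h ▸ mem_map_of_mem f hx)))

end H62.XU
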